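import Cfsg.Agent.H18.Fi22C.Model
import Cfsg.Agent.H18.U6C.Fixed

/-!
With a fixed plane in `J/Z(J)`, `Z(J) = {1, z, a, az}`, the involution is weakly closed in its
centraliser: isolation in the centralisers of `a` and `az` gives weak closure in the core, and makes
the conjugate outside the core centralise the plane and twist the core only by `z`.
-/

set_option autoImplicit false
set_option maxRecDepth 100000

namespace H18.Fi22C

open H18.U6C (lv hv lo hi hv_add split_spec pol8_nondeg pol8_plane good z_conj mem_cent_of_conj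
  centHom centHom_bijective vadd_assoc vadd_comm vadd_self vadd_zero vadd_eq_zero)
open H38.U6C (V vadd pol8 q8 oGroup)
open Subgroup (centralizer mem_centralizer_singleton_iff)

theorem q8_three : ∀ m : Bool, q8 m (hv 3) = true := by decide +kernel

variable {G : Type*} [Group G] {z a : G} {J : Subgroup G} {m : Bool} {φ : G → V}
  {ρ : ↥(centralizer ({z} : Set G)) →* Equiv.Perm V}

/-- The elements of the centre of the core. -/
def InZ (z a r : G) : Prop := r = 1 ∨ r = z ∨ r = a ∨ r = a * z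

theorem mem_cent_of_commute {g x : G} (h : Commute g x) : g ∈ centralizer ({x} : Set G) :=
  mem_centralizer_singleton_iff.mpr h.eq

theorem commute_of_mem {g x : G} (h : g ∈ centralizer ({x} : Set G)) : Commute g x :=
  mem_centralizer_singleton_iff.mp h

theorem inZ_mem (S : FixZ z a J m φ ρ) {r : G} (h : InZ z a r) : r ∈ J := by
  rcases h with rfl | rfl | rfl | rfl
  exacts [one_mem J, S.z_mem, S.a_mem, mul_mem S.a_mem S.z_mem]

theorem inZ_comm (S : FixZ z a J m φ ρ) {r g : G} (h : InZ z a r)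
    (hg : g ∈ centralizer ({z} : Set G)) : Commute r g := by
  have hz : Commute z g := (commute_of_mem hg).symm
  rcases h with rfl | rfl | rfl | rfl
  exacts [Commute.one_left g, hz, S.a_cent g hg, (S.a_cent g hg).mul_left hz]

theorem comm_az (S : FixZ z a J m φ ρ) : Commute a z :=
  S.a_cent z (mem_cent_of_commute (Commute.refl z))

theorem inZ_sq (S : FixZ z a J m φ ρ) {r : G} (h : InZ z a r) : r * r = 1 := by
  rcases h with rfl | rfl | rfl | rfl
  exacts [one_mul 1, S.sq, S.a_sq, by rw [(comm_az S).symm.mul_mul_mul_comm, S.a_sq, S.sq, one_mul]]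

theorem φ_one (S : FixZ z a J m φ ρ) : φ 1 = 0 := (S.φ_ker 1 (one_mem J)).mpr (Or.inl rfl)

theorem φ_inv (S : FixZ z a J m φ ρ) {p : G} (hp : p ∈ J) : φ p⁻¹ = φ p := by
  have h := S.φ_mul p hp p⁻¹ (inv_mem hp)
  rw [mul_inv_cancel, φ_one S] at h
  exact (vadd_eq_zero h.symm).symm

theorem φ_eq (S : FixZ z a J m φ ρ) {p q : G} (hp : p ∈ J) (hq : q ∈ J) (h : φ p = φ q) :
    ∃ r, InZ z a r ∧ q = p * r := by
  refine ⟨p⁻¹ * q, (S.φ_ker _ (mul_mem (inv_mem hp) hq)).mp ?_, (mul_inv_cancel_left p q).symm⟩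
  rw [S.φ_mul _ (inv_mem hp) _ hq, φ_inv S hp, h, vadd_self]

theorem conj_eq (S : FixZ z a J m φ ρ) {p q : G} (hp : p ∈ J) (hq : q ∈ J) :
    p * q * p⁻¹ = q * if pol8 m (φ p) (φ q) = true then z else 1 := by
  rw [S.φ_comm p hp q hq]
  split_ifs
  · rw [mul_assoc, mul_assoc, ← mul_assoc p, mem_centralizer_singleton_iff.mp (S.le_cent hp)]
    group
  · group

theorem commute_iff (S : FixZ z a J m φ ρ) {p q : G} (hp : p ∈ J) (hq : q ∈ J) :
    Commute p q ↔ pol8 m (φ p) (φ q) = false := by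
  have h := S.φ_comm p hp q hq
  cases hpq : pol8 m (φ p) (φ q)
  · rw [hpq] at h
    exact ⟨fun _ => rfl, fun _ => by simpa [Commute, SemiconjBy] using h⟩
  · rw [hpq] at h
    refine ⟨fun hc => ?_, fun hc => by simp at hc⟩
    rw [hc.eq] at h
    exact absurd (by simpa using h.symm) S.ne_one

theorem centre (S : FixZ z a J m φ ρ) {p : G} (hp : p ∈ J) (h : ∀ q ∈ J, Commute p q) :
    InZ z a p := by
  refine (S.φ_ker p hp).mp ?_
  by_contra h0
  obtain ⟨k, hk⟩ := pol8_nondeg m (φ p) h0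
  obtain ⟨q, hq, he⟩ := S.φ_surj (Fin.ofNat 256 (2 ^ k.val))
  rw [← he, (commute_iff S hp hq).mp (h q hq)] at hk
  exact Bool.noConfusion hk

theorem ρ_mem (S : FixZ z a J m φ ρ) (g : ↥(centralizer ({z} : Set G))) : ρ g ∈ oGroup := by
  rw [← S.ρ_range]; exact ⟨g, rfl⟩

theorem φ_commutator (S : FixZ z a J m φ ρ) (g : ↥(centralizer ({z} : Set G))) {p : G}
    (hp : p ∈ J) : φ ((g : G) * p * (g : G)⁻¹ * p⁻¹) = vadd (ρ g (φ p)) (φ p) := by
  rw [S.φ_mul _ (S.conj_mem _ g.2 p hp) _ (inv_mem hp), S.ρ_φ g p hp, φ_inv S hp]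

theorem dead_map {e : G ≃* G} {x : G} (h : H39.Fi22C.Dead z x) :
    H39.Fi22C.Dead (e z) (e x) := by
  refine ⟨fun g h1 h2 => ?_, fun P hP h1 h2 p hp => ?_⟩
  · have h3 := h.1 (e.symm g) (by simpa using h1.map e.symm.toMonoidHom)
      (by simpa using h2.map e.symm.toMonoidHom)
    simpa using congrArg e h3
  · have h3 := h.2 (P.map e.symm.toMonoidHom) (hP.map _)
      (by rintro _ ⟨q, hq, rfl⟩; simpa using (h1 q hq).map e.symm.toMonoidHom)
      (by rintro _ ⟨q, hq, rfl⟩; exact ⟨_, h2 q hq, by simp⟩) (e.symm p) ⟨p, hp, rfl⟩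
    simpa using h3.map e.toMonoidHom

theorem transport (S : FixZ z a J m φ ρ) (e : G ≃* G) :
    FixZ (e z) (e a) (J.map e.toMonoidHom) m (fun x => φ (e.symm x))
      (ρ.comp (centHom e z)) where
  sq := by rw [← map_mul, S.sq, map_one]
  ne_one := fun h => S.ne_one (e.injective (h.trans (map_one e).symm))
  a_sq := by rw [← map_mul, S.a_sq, map_one]
  a_out := ⟨fun h => S.a_out.1 (e.injective (h.trans (map_one e).symm)),
    fun h => S.a_out.2 (e.injective h)⟩
  le_cent := by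
    rintro _ ⟨p, hp, rfl⟩
    refine mem_centralizer_singleton_iff.mpr ?_
    show e p * e z = e z * e p
    rw [← map_mul, ← map_mul, mem_centralizer_singleton_iff.mp (S.le_cent hp)]
  z_mem := ⟨z, S.z_mem, rfl⟩
  a_mem := ⟨a, S.a_mem, rfl⟩
  a_cent := fun g hg => by
    simpa [centHom] using (S.a_cent _ (centHom e z ⟨g, hg⟩).2).map e.toMonoidHom
  card_J := by
    rw [← Nat.card_congr (J.equivMapOfInjective e.toMonoidHom e.injective).toEquiv, S.card_J]
  conj_mem := by
    rintro g hg _ ⟨p, hp, rfl⟩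
    refine ⟨(centHom e z ⟨g, hg⟩ : G) * p * (centHom e z ⟨g, hg⟩ : G)⁻¹,
      S.conj_mem _ (centHom e z ⟨g, hg⟩).2 p hp, ?_⟩
    simp [centHom]
  φ_mul := by
    rintro _ ⟨p, hp, rfl⟩ _ ⟨q, hq, rfl⟩
    simpa using S.φ_mul p hp q hq
  φ_surj := fun v => by
    obtain ⟨p, hp, rfl⟩ := S.φ_surj v
    exact ⟨e p, ⟨p, hp, rfl⟩, by simp⟩
  φ_ker := by
    rintro _ ⟨p, hp, rfl⟩
    simp [S.φ_ker p hp, ← map_mul]
  φ_sq := by
    rintro _ ⟨p, hp, rfl⟩
    simpa [apply_ite e] using congrArg e (S.φ_sq p hp)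
  φ_comm := by
    rintro _ ⟨p, hp, rfl⟩ _ ⟨q, hq, rfl⟩
    simpa [apply_ite e] using congrArg e (S.φ_comm p hp q hq)
  ρ_φ := by
    rintro g _ ⟨p, hp, rfl⟩
    simpa [centHom] using S.ρ_φ (centHom e z g) p hp
  ρ_ker := fun g => by
    rw [MonoidHom.comp_apply, S.ρ_ker]
    refine ⟨fun h => ⟨_, h, e.apply_symm_apply _⟩, ?_⟩
    rintro ⟨p, hp, hpg⟩
    have he : ((centHom e z g : ↥(centralizer ({z} : Set G))) : G) = p := by
      show e.symm (g : G) = p
      rw [← hpg]; exact e.symm_apply_apply p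
    rw [he]; exact hp
  ρ_range := by
    rw [MonoidHom.range_comp, MonoidHom.range_eq_top.mpr (centHom_bijective e z).2,
      ← MonoidHom.range_eq_map, S.ρ_range]
  card_cent := by
    rw [Nat.card_eq_of_bijective _ (centHom_bijective e z), S.card_cent]
  perfect := fun f hf => by
    let θ := MulEquiv.ofBijective (centHom e z) (centHom_bijective e z)
    have h := S.perfect (f.comp θ.symm.toMonoidHom) fun p hp => hf (θ.symm p) ⟨p, hp, by
      have h1 : e.symm ((θ.symm p : ↥(centralizer ({e z} : Set G))) : G) = p :=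
        congrArg Subtype.val (θ.apply_symm_apply p)
      show e (p : G) = _
      rw [← h1, e.apply_symm_apply]⟩
    refine MonoidHom.ext fun g => ?_
    simpa using DFunLike.congr_fun h (θ g)
  not_conj := by
    refine ⟨fun h => S.not_conj.1 ?_, fun h => S.not_conj.2 ?_⟩
    · simpa using e.symm.toMonoidHom.map_isConj h
    · simpa using e.symm.toMonoidHom.map_isConj h
  dead := ⟨dead_map S.dead.1, by rw [← map_mul]; exact dead_map S.dead.2⟩

variable {t b₀ : G} {Jt : Subgroup G} {φt : G → V}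
  {ρt : ↥(centralizer ({t} : Set G)) →* Equiv.Perm V}

theorem not_inZ (S : FixZ z a J m φ ρ) (hc : IsConj z t) (htz : t ≠ z) : ¬ InZ z a t := by
  rintro (rfl | rfl | rfl | rfl)
  · obtain ⟨g, hg⟩ := isConj_iff.mp hc
    exact S.ne_one (conj_eq_one_iff.mp hg)
  · exact htz rfl
  · exact S.not_conj.1 hc
  · exact S.not_conj.2 hc

theorem exists_swap (S : FixZ z a J m φ ρ) (htJ : t ∈ J) (hn : ¬ InZ z a t) :
    ∃ x ∈ J, t * x * t⁻¹ = x * z := by
  have h0 : φ t ≠ 0 := fun h => hn ((S.φ_ker t htJ).mp h)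
  obtain ⟨k, hk⟩ := pol8_nondeg m (φ t) h0
  obtain ⟨x, hx, he⟩ := S.φ_surj (Fin.ofNat 256 (2 ^ k.val))
  rw [← he] at hk
  exact ⟨x, hx, by rw [conj_eq S htJ hx, if_pos hk]⟩

theorem swap_dichotomy (S : FixZ z a J m φ ρ) (htJ : t ∈ J) {x j : G} (hx : x ∈ J)
    (hxt : t * x * t⁻¹ = x * z) (hj : j ∈ J) (hn : j ∉ centralizer ({t} : Set G)) :
    j * x ∈ centralizer ({t} : Set G) := by
  have hjt : t * j * t⁻¹ = j * z := by
    rw [conj_eq S htJ hj, if_pos]
    by_contra hp
    refine hn (mem_centralizer_singleton_iff.mpr ?_)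
    exact (((commute_iff S htJ hj).mpr (Bool.eq_false_iff.mpr hp)).eq).symm
  refine mem_centralizer_singleton_iff.mpr ?_
  have h1 : t * (j * x) * t⁻¹ = j * x := by
    calc t * (j * x) * t⁻¹ = t * j * t⁻¹ * (t * x * t⁻¹) := by group
      _ = j * (z * x) * z := by rw [hjt, hxt]; group
      _ = j * (x * z) * z := by rw [(mem_centralizer_singleton_iff.mp (S.le_cent hx)).symm]
      _ = j * x * (z * z) := by group
      _ = j * x := by rw [S.sq, mul_one]
  exact (mul_inv_eq_iff_eq_mul.mp h1).symm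

theorem card_A [Finite G] (S : FixZ z a J m φ ρ) (htJ : t ∈ J) :
    512 ≤ Nat.card ↥(J ⊓ centralizer ({t} : Set G) : Subgroup G) := by
  classical
  by_cases hn : InZ z a t
  · have he : J ⊓ centralizer ({t} : Set G) = J := inf_eq_left.mpr fun p hp =>
      mem_cent_of_commute (inZ_comm S hn (S.le_cent hp)).symm
    rw [he, S.card_J]; norm_num
  obtain ⟨x, hx, hxt⟩ := exists_swap S htJ hn
  let f : J → ↥(J ⊓ centralizer ({t} : Set G) : Subgroup G) × Bool := fun j =>
    if h : (j : G) ∈ centralizer ({t} : Set G) then (⟨j, j.2, h⟩, true)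
    else (⟨j * x, mul_mem j.2 hx, swap_dichotomy S htJ hx hxt j.2 h⟩, false)
  have hf : Function.Injective f := by
    intro p q h
    simp only [f] at h
    split_ifs at h with ha hb hb <;> simp only [Prod.mk.injEq] at h
    · exact Subtype.ext (congrArg Subtype.val h.1 :)
    · exact Bool.noConfusion h.2
    · exact Bool.noConfusion h.2
    · exact Subtype.ext (mul_right_cancel (congrArg Subtype.val h.1 :))
  have := Nat.card_le_card_of_injective f hf
  rw [S.card_J, Nat.card_prod] at this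
  simp only [Nat.card_eq_fintype_card (α := Bool), Fintype.card_bool] at this
  omega

/-- An element outside the core centralises at most 256 elements of it. -/
theorem card_cent_le [Finite G] (S : FixZ z a J m φ ρ) {y : G}
    (hy : y ∈ centralizer ({z} : Set G)) (hyJ : y ∉ J) (hy2 : y * y = 1) :
    Nat.card ↥(J ⊓ centralizer ({y} : Set G) : Subgroup G) ≤ 256 := by
  classical
  have : Fintype G := Fintype.ofFinite G
  have h1 : ρ ⟨y, hy⟩ ≠ 1 := fun h => hyJ ((S.ρ_ker _).mp h)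
  have h2 : ρ ⟨y, hy⟩ * ρ ⟨y, hy⟩ = 1 := by
    rw [← map_mul, ← map_one ρ]; exact congrArg ρ (Subtype.ext hy2)
  obtain ⟨h64, -, -⟩ := invol_facts S (ρ_mem S _) h1 h2
  let A : Finset G := Finset.univ.filter fun g => g ∈ J ⊓ centralizer ({y} : Set G)
  have hA : Nat.card ↥(J ⊓ centralizer ({y} : Set G) : Subgroup G) = A.card := by
    rw [Nat.card_eq_fintype_card, Fintype.card_subtype]
  have hsub : A.image φ ⊆ Finset.univ.filter fun v : V => ρ ⟨y, hy⟩ v = v := by
    intro v hv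
    obtain ⟨p, hp, rfl⟩ := Finset.mem_image.mp hv
    simp only [A, Finset.mem_filter, Finset.mem_univ, true_and] at hp ⊢
    rw [← S.ρ_φ ⟨y, hy⟩ p hp.1]
    show φ (y * p * y⁻¹) = φ p
    rw [← mem_centralizer_singleton_iff.mp hp.2, mul_inv_cancel_right]
  have h4 : A.card ≤ 4 * (A.image φ).card := by
    refine Finset.card_le_mul_card_image A 4 fun v hv => ?_
    obtain ⟨p, hp, rfl⟩ := Finset.mem_image.mp hv
    refine le_trans (Finset.card_le_card
      (t := ({p, p * z, p * a, p * (a * z)} : Finset G)) fun q hq => ?_) Finset.card_le_four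
    rw [Finset.mem_filter] at hq
    simp only [A, Finset.mem_filter, Finset.mem_univ, true_and] at hq hp
    obtain ⟨r, hr, rfl⟩ := φ_eq S hp.1 hq.1.1 hq.2.symm
    rcases hr with rfl | rfl | rfl | rfl <;> simp
  have := Finset.card_le_card hsub
  omega

/-- A conjugate centralises what `a` and `az` centralise in its core. -/
theorem dead_core [Finite G] (S : FixZ z a J m φ ρ) (T : FixZ t b₀ Jt m φt ρt)
    (hzt : z ∈ centralizer ({t} : Set G)) {e p : G} (he : e = a ∨ e = a * z) (hp : p ∈ Jt)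
    (hpe : Commute p e) : Commute z p := by
  have hd : H39.Fi22C.Dead z e := by
    rcases he with rfl | rfl
    exacts [S.dead.1, S.dead.2]
  have hze : Commute z e := by
    rcases he with rfl | rfl
    exacts [(comm_az S).symm, (comm_az S).symm.mul_right (Commute.refl z)]
  refine hd.2 (Jt ⊓ centralizer ({e} : Set G)) ((IsPGroup.of_card T.card_J).to_le inf_le_left)
    (fun q hq => commute_of_mem hq.2) (fun q hq => ⟨T.conj_mem _ hzt q hq.1,
      mem_cent_of_commute ((hze.mul_left (commute_of_mem hq.2)).mul_left hze.inv_left)⟩)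
    p ⟨hp, mem_cent_of_commute hpe⟩

theorem comm_mem_both (S : FixZ z a J m φ ρ) (T : FixZ t b₀ Jt m φt ρt) {p b : G}
    (hp : p ∈ J ⊓ centralizer ({t} : Set G)) (hb : b ∈ Jt ⊓ centralizer ({z} : Set G)) :
    b * p * b⁻¹ * p⁻¹ ∈ J ⊓ Jt := by
  have hp' : p⁻¹ ∈ J := inv_mem hp.1
  refine ⟨mul_mem (S.conj_mem _ hb.2 p hp.1) hp', ?_⟩
  have hb' : b⁻¹ ∈ Jt := inv_mem hb.1
  have := mul_mem hb.1 (T.conj_mem _ hp.2 _ hb')
  rwa [show b * (p * b⁻¹ * p⁻¹) = b * p * b⁻¹ * p⁻¹ by group] at this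

theorem core_comm (S : FixZ z a J m φ ρ) (T : FixZ t b₀ Jt m φt ρt) (hz : z ∉ Jt) {k p : G}
    (hk : k ∈ J ⊓ Jt) (hp : p ∈ J ⊓ centralizer ({t} : Set G)) : Commute k p := by
  have h := conj_eq S hp.1 hk.1
  cases hpk : pol8 m (φ p) (φ k)
  · exact ((commute_iff S hp.1 hk.1).mpr hpk).symm
  · rw [hpk, if_pos rfl] at h
    have h1 := T.conj_mem _ hp.2 k hk.2
    rw [h] at h1
    have hk' : k⁻¹ ∈ Jt := inv_mem hk.2
    exact absurd (by simpa using mul_mem hk' h1) hz

theorem step_core_mem [Finite G] (S : FixZ z a J m φ ρ) (T : FixZ t b₀ Jt m φt ρt)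
    (hn : ¬ InZ z a t) (htJ : t ∈ J) : z ∈ Jt := by
  classical
  have : Fintype G := Fintype.ofFinite G
  by_contra hz
  obtain ⟨x, hx, hxt⟩ := exists_swap S htJ hn
  have hall : ∀ c ∈ J, (∀ p ∈ J ⊓ centralizer ({t} : Set G), Commute c p) → Commute c x →
      InZ z a c := by
    intro c hc hA hcx
    refine centre S hc fun j hj => ?_
    by_cases h : j ∈ centralizer ({t} : Set G)
    · exact hA j ⟨hj, h⟩
    · have := (hA _ ⟨mul_mem hj hx, swap_dichotomy S htJ hx hxt hj h⟩).mul_right hcx.inv_right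
      rwa [mul_inv_cancel_right] at this
  have hK : ∀ k ∈ J ⊓ Jt, InZ z a k ∨ InZ z a (k * t) := by
    intro k hk
    have hkA : ∀ p ∈ J ⊓ centralizer ({t} : Set G), Commute k p := fun p hp =>
      core_comm S T hz hk hp
    cases hkx : pol8 m (φ k) (φ x)
    · exact Or.inl (hall k hk.1 hkA ((commute_iff S hk.1 hx).mpr hkx))
    · have hc : Commute (k * t) x := by
        show k * t * x = x * (k * t)
        have h1 : t * x = x * z * t := mul_inv_eq_iff_eq_mul.mp hxt
        have h2 : k * x = x * z * k := by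
          refine mul_inv_eq_iff_eq_mul.mp ?_
          rw [conj_eq S hk.1 hx, if_pos hkx]
        have hzk := mem_centralizer_singleton_iff.mp (S.le_cent hk.1)
        calc k * t * x = k * x * (z * t) := by rw [mul_assoc, h1]; group
          _ = x * z * (k * z) * t := by rw [h2]; group
          _ = x * (z * z) * (k * t) := by rw [hzk]; group
          _ = x * (k * t) := by rw [S.sq, mul_one]
      exact Or.inr (hall _ (mul_mem hk.1 htJ)
        (fun p hp => (hkA p hp).mul_left (commute_of_mem hp.2).symm) hc)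
  let F : Finset G := Finset.univ.filter fun g => g ∈ J ⊓ Jt
  let W : Finset G := ({1, z, a, a * z} : Finset G) ∪
    ({1, z, a, a * z} : Finset G).image (fun r => r * t)
  have hW : W.card ≤ 8 := by
    refine (Finset.card_union_le _ _).trans ?_
    have h4 : ({1, z, a, a * z} : Finset G).card ≤ 4 := Finset.card_le_four
    have := Finset.card_image_le (s := ({1, z, a, a * z} : Finset G)) (f := fun r => r * t)
    omega
  have hmemW : ∀ r, InZ z a r → r ∈ W ∧ r * t ∈ W := by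
    intro r hr
    have h1 : r ∈ ({1, z, a, a * z} : Finset G) := by
      rcases hr with rfl | rfl | rfl | rfl <;> simp
    exact ⟨Finset.mem_union_left _ h1,
      Finset.mem_union_right _ (Finset.mem_image.mpr ⟨r, h1, rfl⟩)⟩
  have hZz : ∀ r, InZ z a r → InZ z a (r * z) := by
    rintro r (rfl | rfl | rfl | rfl)
    · exact Or.inr (Or.inl (one_mul z))
    · exact Or.inl S.sq
    · exact Or.inr (Or.inr (Or.inr rfl))
    · exact Or.inr (Or.inr (Or.inl (by rw [mul_assoc, S.sq, mul_one])))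
  have hsub : F ∪ F.image (fun g => g * z) ⊆ W := by
    intro g hg
    simp only [F, Finset.mem_union, Finset.mem_image, Finset.mem_filter, Finset.mem_univ,
      true_and] at hg
    have key : ∀ k ∈ J ⊓ Jt, k ∈ W ∧ k * z ∈ W := by
      intro k hk
      rcases hK k hk with h | h
      · exact ⟨(hmemW k h).1, (hmemW _ (hZz k h)).1⟩
      · have e1 : k = k * t * t := by rw [mul_assoc, T.sq, mul_one]
        have e2 : k * z = k * t * z * t := by
          have hzt' := mem_centralizer_singleton_iff.mp (S.le_cent htJ)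
          calc k * z = k * z * (t * t) := by rw [T.sq, mul_one]
            _ = k * (z * t) * t := by group
            _ = k * t * z * t := by rw [← hzt']; group
        exact ⟨e1 ▸ (hmemW _ h).2, e2 ▸ (hmemW _ (hZz _ h)).2⟩
    rcases hg with h | ⟨k, hk, rfl⟩
    · exact (key g h).1
    · exact (key k hk).2
  have hdis : Disjoint F (F.image fun g => g * z) := by
    rw [Finset.disjoint_left]
    intro g hg hg'
    obtain ⟨k, hk, rfl⟩ := Finset.mem_image.mp hg'
    simp only [F, Finset.mem_filter, Finset.mem_univ, true_and] at hg hk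
    exact hz (by simpa using (mul_mem (inv_mem hk.2) hg.2 : k⁻¹ * (k * z) ∈ Jt))
  have hF : F.card ≤ 4 := by
    have h := (Finset.card_union_of_disjoint hdis).symm.trans_le (Finset.card_le_card hsub)
    rw [Finset.card_image_of_injective _ (mul_left_injective z)] at h
    omega
  let f : ↥(J ⊓ centralizer ({t} : Set G) : Subgroup G) →* Equiv.Perm V :=
    ρt.comp (Subgroup.inclusion inf_le_right)
  have hker4 : Nat.card f.ker ≤ 4 := by
    refine le_trans ?_ hF
    rw [Nat.card_eq_fintype_card]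
    refine Finset.card_le_card_of_injOn
      (fun p : f.ker => ((p : ↥(J ⊓ centralizer ({t} : Set G) : Subgroup G)) : G))
      (fun p _ => ?_) (fun p _ q _ h => Subtype.ext (Subtype.ext h))
    simp only [F, Finset.coe_filter, Finset.mem_univ, true_and, Set.mem_ofPred_eq]
    exact ⟨p.1.2.1, (T.ρ_ker _).mp p.2⟩
  have hle : f.range ≤ oGroup := by
    rintro _ ⟨p, rfl⟩; exact ρ_mem T _
  have hp2 : IsPGroup 2 f.range := by
    rw [MonoidHom.range_eq_map]
    exact (((IsPGroup.of_card S.card_J).to_le inf_le_left).to_subgroup ⊤).map f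
  obtain ⟨k, hk⟩ := IsPGroup.iff_card.mp hp2
  have hdvd := Subgroup.card_dvd_of_le hle
  rw [card_oGroup S, hk] at hdvd
  have hcard := H18.U6C.card_hom_range f
  rw [hk] at hcard
  have h512 := card_A S htJ
  have h7 : 7 ≤ k := by
    by_contra hlt
    have : (2 : ℕ) ^ k ≤ 2 ^ 6 := Nat.pow_le_pow_right (by norm_num) (by omega)
    have := Nat.mul_le_mul hker4 this
    omega
  exact absurd ((pow_dvd_pow 2 h7).trans hdvd) (by norm_num)

theorem step_both_false [Finite G] (S : FixZ z a J m φ ρ) (T : FixZ t b₀ Jt m φt ρt)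
    (hc : IsConj z t) (htz : t ≠ z) (htJ : t ∈ J) (hzt : z ∈ Jt) : False := by
  have hn := not_inZ S hc htz
  have htC := S.le_cent htJ
  have hat : a ∈ centralizer ({t} : Set G) := mem_cent_of_commute (S.a_cent t htC)
  have haJ : a ∈ Jt := by
    by_contra h
    have h1 := card_cent_le T hat h S.a_sq
    have h2 := card_A T hzt
    have h3 : Jt ⊓ centralizer ({z} : Set G) ≤ Jt ⊓ centralizer ({a} : Set G) := fun p hp =>
      ⟨hp.1, mem_cent_of_commute (S.a_cent p hp.2).symm⟩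
    have h4 := Subgroup.card_le_of_le h3
    omega
  -- an element of the centre of the conjugate core would be central in the whole of `J`
  have hout : ¬ InZ t b₀ a := by
    have key : ∀ e, (e = b₀ ∨ e = b₀ * t) → a ≠ e := by
      rintro e he rfl
      refine hn (centre S htJ fun p hp => ?_)
      exact dead_core T S htC he hp (S.a_cent p (S.le_cent hp)).symm
    rintro (h | h | h | h)
    · exact S.a_out.1 h
    · exact S.not_conj.1 (h ▸ hc)
    · exact key _ (Or.inl rfl) h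
    · exact key _ (Or.inr rfl) h
  obtain ⟨x, hx, hax⟩ := exists_swap T haJ hout
  have hzx : z ∈ centralizer ({t} : Set G) := T.le_cent hzt
  have hxz : ¬ Commute z x := by
    intro h
    have h1 := S.a_cent x (mem_cent_of_commute h.symm)
    rw [h1.eq, mul_inv_cancel_right, left_eq_mul] at hax
    exact T.ne_one hax
  refine hxz (dead_core S T hzx (Or.inr rfl) hx ?_)
  have hz' := conj_eq T hzt hx
  have hp : pol8 m (φt z) (φt x) = true := by
    by_contra hp
    exact hxz ((commute_iff T hzt hx).mpr (Bool.eq_false_iff.mpr hp))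
  rw [if_pos hp] at hz'
  refine ((mul_inv_eq_iff_eq_mul (b := a * z)).mp ?_ : a * z * x = x * (a * z)).symm
  calc a * z * x * (a * z)⁻¹ = a * (z * x * z⁻¹) * a⁻¹ := by group
    _ = a * x * a⁻¹ * (a * t * a⁻¹) := by rw [hz']; group
    _ = x * t * t := by rw [hax, (commute_of_mem hat).eq, mul_inv_cancel_right]
    _ = x := by rw [mul_assoc, T.sq, mul_one]

theorem core_unique [Finite G] (S : FixZ z a J m φ ρ) {c : G} (hc : c ∈ J) (hcc : IsConj z c) :
    c = z := by
  by_contra hne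
  have hn := not_inZ S hcc hne
  obtain ⟨g, rfl⟩ := isConj_iff.mp hcc
  have T := transport S (MulAut.conj g)
  exact step_both_false S T hcc hne hc (step_core_mem S T hn hc)

theorem outside_core [Finite G] (S : FixZ z a J m φ ρ) (T : FixZ t b₀ Jt m φt ρt)
    (ht : t ∈ centralizer ({z} : Set G)) (hzt : z ∈ centralizer ({t} : Set G)) (hzJt : z ∉ Jt)
    {r : G} (hr : InZ z a r) (hrJ : r ∈ Jt) : r = 1 := by
  by_contra h1
  have key : ∀ e, (e = a ∨ e = a * z) → e ∈ Jt → False := by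
    intro e he heJ
    have h2 := card_A T heJ
    have h3 : Jt ⊓ centralizer ({e} : Set G) ≤ Jt ⊓ centralizer ({z} : Set G) := fun p hp =>
      ⟨hp.1, mem_cent_of_commute (dead_core S T hzt he hp.1 (commute_of_mem hp.2)).symm⟩
    have h4 := Subgroup.card_le_of_le h3
    have h5 := card_cent_le T hzt hzJt S.sq
    omega
  rcases hr with rfl | rfl | rfl | rfl
  exacts [h1 rfl, hzJt hrJ, key _ (Or.inl rfl) hrJ, key _ (Or.inr rfl) hrJ]

/-- The twist of a lift of a fixed vector of the plane is a power of `z`. -/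
theorem plane_fix (S : FixZ z a J m φ ρ) {u : G} {h : Fin 4} (hu : u ∈ J) (huh : φ u = hv h)
    {g : G} (hg : g ∈ centralizer ({z} : Set G)) : g * u * g⁻¹ = u ∨ g * u * g⁻¹ = u * z := by
  classical
  let d : ↥(centralizer ({z} : Set G)) → G := fun k => u⁻¹ * ((k : G) * u * (k : G)⁻¹)
  have hd : ∀ k, InZ z a (d k) := fun k => by
    obtain ⟨r, hr, he⟩ := φ_eq S hu (S.conj_mem _ k.2 u hu)
      (by rw [S.ρ_φ k u hu, huh, (good (ρ_mem S _)).2])
    show InZ z a (u⁻¹ * ((k : G) * u * (k : G)⁻¹))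
    rw [he, inv_mul_cancel_left]; exact hr
  have hmul : ∀ k l, d (k * l) = d k * d l := by
    intro k l
    have hc := (inZ_comm S (hd l) k.2).symm
    calc d (k * l) = u⁻¹ * ((k : G) * (u * d l) * (k : G)⁻¹) := by
          simp only [d, Subgroup.coe_mul]; group
      _ = u⁻¹ * ((k : G) * u * (k : G)⁻¹ * ((k : G) * d l * (k : G)⁻¹)) := by group
      _ = d k * d l := by rw [hc.eq, mul_inv_cancel_right]; simp only [d, mul_assoc]
  let Ev : G → Prop := fun r => r = 1 ∨ r = z
  have hEv : ∀ r s, InZ z a r → InZ z a s → (Ev (r * s) ↔ (Ev r ↔ Ev s)) := by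
    have hz1 := S.ne_one
    have ha1 := S.a_out.1
    have ha2 := S.a_out.2
    have haz := comm_az S
    have e1 : z * a = a * z := haz.symm.eq
    have n1 : a * z ≠ 1 := fun h => ha2 (by rw [← mul_one a, ← S.sq, ← mul_assoc, h, one_mul])
    have n2 : a * z ≠ z := fun h => ha1 (mul_eq_right.mp h)
    intro r s hr hs
    rcases hr with e | e | e | e <;> rcases hs with e' | e' | e' | e' <;> rw [e, e'] <;>
      simp [Ev, S.sq, S.a_sq, e1, ← mul_assoc, hz1, ha1, ha2, n1, n2, mul_assoc a z z,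
        mul_assoc a z a]
  let f : ↥(centralizer ({z} : Set G)) →* ℤˣ :=
    MonoidHom.mk' (fun k => if Ev (d k) then 1 else -1) fun k l => by
      have := hEv _ _ (hd k) (hd l)
      simp only [hmul]
      by_cases h1 : Ev (d k) <;> by_cases h2 : Ev (d l) <;> simp [h1, h2, this]
  have hf : f = 1 := S.perfect f fun p hp => by
    refine if_pos ?_
    show Ev (u⁻¹ * ((p : G) * u * (p : G)⁻¹))
    rw [conj_eq S hp hu, inv_mul_cancel_left]
    split_ifs
    exacts [Or.inr rfl, Or.inl rfl]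
  have h1 : (if Ev (d ⟨g, hg⟩) then (1 : ℤˣ) else -1) = 1 := DFunLike.congr_fun hf ⟨g, hg⟩
  have h2 : Ev (d ⟨g, hg⟩) := by
    by_contra h2
    rw [if_neg h2] at h1
    exact absurd h1 (by decide)
  rcases h2 with h2 | h2
  · exact Or.inl (inv_mul_eq_one.mp h2).symm
  · exact Or.inr (inv_mul_eq_iff_eq_mul.mp h2)

theorem untwisted [Finite G] (S : FixZ z a J m φ ρ) (T : FixZ t b₀ Jt m φt ρt)
    (ht : t ∈ centralizer ({z} : Set G)) (hzt : z ∈ centralizer ({t} : Set G)) {u : G} {h : Fin 4}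
    (hu : u ∈ J) (huh : φ u = hv h) : u ∈ centralizer ({t} : Set G) := by
  by_contra hn
  have hb : b₀ ∈ centralizer ({z} : Set G) := mem_cent_of_commute (T.a_cent z hzt)
  have kill : ∀ e, (e = b₀ ∨ e = b₀ * t) → ¬ Commute u e := fun e he hue =>
    hn (mem_cent_of_commute (dead_core T S ht he hu hue).symm)
  have e1 : t * u * t⁻¹ = u * z :=
    (plane_fix S hu huh ht).resolve_left fun e =>
      hn (mem_centralizer_singleton_iff.mpr (mul_inv_eq_iff_eq_mul.mp e).symm)
  have e2 : b₀ * u * b₀⁻¹ = u * z :=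
    (plane_fix S hu huh hb).resolve_left fun e =>
      kill _ (Or.inl rfl) (mul_inv_eq_iff_eq_mul.mp e).symm
  refine kill _ (Or.inr rfl) ((mul_inv_eq_iff_eq_mul (b := b₀ * t)).mp ?_ :
    b₀ * t * u = u * (b₀ * t)).symm
  calc b₀ * t * u * (b₀ * t)⁻¹ = b₀ * (t * u * t⁻¹) * b₀⁻¹ := by group
    _ = b₀ * u * b₀⁻¹ * (b₀ * z * b₀⁻¹) := by rw [e1]; group
    _ = u * z * z := by rw [e2, z_conj hb]
    _ = u := by rw [mul_assoc, S.sq, mul_one]

theorem centralises [Finite G] (S : FixZ z a J m φ ρ) (T : FixZ t b₀ Jt m φt ρt)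
    (ht : t ∈ centralizer ({z} : Set G)) (hzt : z ∈ centralizer ({t} : Set G)) (hzJt : z ∉ Jt)
    {u b : G} {h : Fin 4} (hu : u ∈ J) (huh : φ u = hv h)
    (hb : b ∈ Jt ⊓ centralizer ({z} : Set G)) : Commute b u := by
  have hk := comm_mem_both S T ⟨hu, untwisted S T ht hzt hu huh⟩ hb
  have hφ : φ (b * u * b⁻¹ * u⁻¹) = 0 := by
    rw [φ_commutator S ⟨b, hb.2⟩ hu, huh, (good (ρ_mem S _)).2, vadd_self]
  have h1 := outside_core S T ht hzt hzJt ((S.φ_ker _ hk.1).mp hφ) hk.2
  exact mul_inv_eq_iff_eq_mul.mp (mul_inv_eq_one.mp h1)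

/-- The twist of any lift of a fixed vector is a power of `z`. -/
theorem twist [Finite G] (S : FixZ z a J m φ ρ) (T : FixZ t b₀ Jt m φt ρt)
    (ht : t ∈ centralizer ({z} : Set G)) (hzt : z ∈ centralizer ({t} : Set G)) (htJ : t ∉ J)
    {p r : G} (hp : p ∈ J) (hr : InZ z a r) (hpr : t * p * t⁻¹ = p * r) : r = 1 ∨ r = z := by
  obtain ⟨b, hb, hbv⟩ := T.φ_surj (hv 3)
  have hbz : b ∈ centralizer ({z} : Set G) := untwisted T S hzt ht hb hbv
  have hb2 : b * b = t := by rw [T.φ_sq b hb, hbv, if_pos (q8_three m)]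
  set h := b * p * b⁻¹ * p⁻¹ with hh
  have hhJ : h ∈ J := mul_mem (S.conj_mem _ hbz p hp) (inv_mem hp)
  have hht : h ∈ centralizer ({t} : Set G) := by
    refine mem_centralizer_singleton_iff.mpr (mul_inv_eq_iff_eq_mul.mp ?_).symm
    have hbt : t * b * t⁻¹ = b := by
      rw [← mem_centralizer_singleton_iff.mp (T.le_cent hb), mul_inv_cancel_right]
    calc t * h * t⁻¹ = t * b * t⁻¹ * (t * p * t⁻¹) * (t * b * t⁻¹)⁻¹ * (t * p * t⁻¹)⁻¹ := by
          rw [hh]; group
      _ = b * p * (r * b⁻¹) * r⁻¹ * p⁻¹ := by rw [hbt, hpr]; group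
      _ = b * p * b⁻¹ * p⁻¹ := by rw [(inZ_comm S hr (inv_mem hbz)).eq]; group
  have hbh : Commute h b := centralises T S hzt ht htJ hb hbv ⟨hhJ, hht⟩
  have hsq : h * h = 1 ∨ h * h = z := by
    rw [S.φ_sq h hhJ]; split_ifs
    exacts [Or.inr rfl, Or.inl rfl]
  have he : r = h * h := by
    have h2 : h * h * p = p * r := by
      rw [← hpr, ← hb2]
      calc h * h * p = h * (b * p * b⁻¹) := by rw [hh]; group
        _ = b * (h * p) * b⁻¹ := by rw [← mul_assoc, ← mul_assoc, hbh.eq]; group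
        _ = b * b * p * (b * b)⁻¹ := by rw [hh]; group
    have hcp : Commute (h * h) p := by
      rcases hsq with e | e <;> rw [e]
      exacts [Commute.one_left p, (commute_of_mem (S.le_cent hp)).symm]
    exact mul_left_cancel (a := p) (h2.symm.trans hcp.eq)
  rwa [← he] at hsq

theorem fixed_lift [Finite G] (S : FixZ z a J m φ ρ) (T : FixZ t b₀ Jt m φt ρt)
    (ht : t ∈ centralizer ({z} : Set G)) (hzt : z ∈ centralizer ({t} : Set G)) (htJ : t ∉ J)
    {v : V} (hv : ρ ⟨t, ht⟩ v = v) :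
    ∃ p ∈ J, φ p = v ∧ (p ∈ centralizer ({t} : Set G) ∨ t * p * t⁻¹ = p * z) := by
  obtain ⟨p, hp, rfl⟩ := S.φ_surj v
  refine ⟨p, hp, rfl, ?_⟩
  have he : φ p = φ (t * p * t⁻¹) := by
    rw [← hv]; exact (S.ρ_φ ⟨t, ht⟩ p hp).symm
  obtain ⟨r, hr, hpr⟩ := φ_eq S hp (S.conj_mem _ ht p hp) he
  rcases twist S T ht hzt htJ hp hr hpr with rfl | rfl
  · rw [mul_one] at hpr
    exact Or.inl (mem_centralizer_singleton_iff.mpr (mul_inv_eq_iff_eq_mul.mp hpr).symm)
  · exact Or.inr hpr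

theorem mul_twisted (S : FixZ z a J m φ ρ) {p q : G} (hq : q ∈ J) (hpt : t * p * t⁻¹ = p * z)
    (hqt : t * q * t⁻¹ = q * z) : p * q ∈ centralizer ({t} : Set G) := by
  refine mem_centralizer_singleton_iff.mpr (mul_inv_eq_iff_eq_mul.mp ?_).symm
  calc t * (p * q) * t⁻¹ = t * p * t⁻¹ * (t * q * t⁻¹) := by group
    _ = p * (z * q) * z := by rw [hpt, hqt]; group
    _ = p * (q * z) * z := by rw [(mem_centralizer_singleton_iff.mp (S.le_cent hq)).symm]
    _ = p * q * (z * z) := by group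
    _ = p * q := by rw [S.sq, mul_one]

theorem card_fixed_A [Finite G] (S : FixZ z a J m φ ρ) (T : FixZ t b₀ Jt m φt ρt)
    (ht : t ∈ centralizer ({z} : Set G)) (hzt : z ∈ centralizer ({t} : Set G)) (htJ : t ∉ J) :
    ∃ L : Finset V, 32 ≤ L.card ∧
      ∀ v ∈ L, ∃ p ∈ J ⊓ centralizer ({t} : Set G), φ p = v := by
  classical
  have h1 : ρ ⟨t, ht⟩ ≠ 1 := fun h => htJ ((S.ρ_ker _).mp h)
  have h2 : ρ ⟨t, ht⟩ * ρ ⟨t, ht⟩ = 1 := by
    rw [← map_mul, ← map_one ρ]; exact congrArg ρ (Subtype.ext T.sq)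
  obtain ⟨h64, -, -⟩ := invol_facts S (ρ_mem S _) h1 h2
  let L : Finset V := Finset.univ.filter fun v => ∃ p ∈ J ⊓ centralizer ({t} : Set G), φ p = v
  refine ⟨L, ?_, fun v hv => (Finset.mem_filter.mp hv).2⟩
  by_cases hall : ∀ v, ρ ⟨t, ht⟩ v = v → v ∈ L
  · have := Finset.card_le_card (t := L)
      (s := Finset.univ.filter fun v : V => ρ ⟨t, ht⟩ v = v) fun v hv =>
        hall v (Finset.mem_filter.mp hv).2
    omega
  · simp only [not_forall] at hall
    obtain ⟨w, hw, hwL⟩ := hall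
    have out : ∀ v, ρ ⟨t, ht⟩ v = v → v ∉ L →
        ∃ p ∈ J, φ p = v ∧ t * p * t⁻¹ = p * z := by
      intro v hv hvL
      obtain ⟨p, hp, hpv, hpt⟩ := fixed_lift S T ht hzt htJ hv
      exact ⟨p, hp, hpv, hpt.resolve_left fun h =>
        hvL (Finset.mem_filter.mpr ⟨Finset.mem_univ _, p, ⟨hp, h⟩, hpv⟩)⟩
    have hsub : (Finset.univ.filter fun v : V => ρ ⟨t, ht⟩ v = v) ⊆
        L ∪ L.image (fun v => vadd v w) := by
      intro v hv
      rw [Finset.mem_union]
      by_cases hvL : v ∈ L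
      · exact Or.inl hvL
      · right
        obtain ⟨p, hp, hpv, hpt⟩ := out v (Finset.mem_filter.mp hv).2 hvL
        obtain ⟨q, hq, hqw, hqt⟩ := out w hw hwL
        refine Finset.mem_image.mpr ⟨vadd v w, Finset.mem_filter.mpr ⟨Finset.mem_univ _, p * q,
          ⟨mul_mem hp hq, mul_twisted S hq hpt hqt⟩, by rw [S.φ_mul p hp q hq, hpv, hqw]⟩, ?_⟩
        rw [vadd_assoc, vadd_self, vadd_zero]
    have := (Finset.card_le_card hsub).trans (Finset.card_union_le _ _)
    have := Finset.card_image_le (s := L) (f := fun v => vadd v w)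
    omega

theorem step_outer_false [Finite G] (S : FixZ z a J m φ ρ) (T : FixZ t b₀ Jt m φt ρt)
    (ht : t ∈ centralizer ({z} : Set G)) (hzt : z ∈ centralizer ({t} : Set G))
    (hzJt : z ∉ Jt) : False := by
  obtain ⟨a₁, ha₁, he₁⟩ := S.φ_surj (hv 1)
  obtain ⟨a₂, ha₂, he₂⟩ := S.φ_surj (hv 2)
  have hA₁ : a₁ ∈ J ⊓ centralizer ({t} : Set G) := ⟨ha₁, untwisted S T ht hzt ha₁ he₁⟩
  have hA₂ : a₂ ∈ J ⊓ centralizer ({t} : Set G) := ⟨ha₂, untwisted S T ht hzt ha₂ he₂⟩
  have hz : a₁ * a₂ = a₂ * a₁ * z := by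
    rw [S.φ_comm a₁ ha₁ a₂ ha₂, if_pos]
    rw [he₁, he₂, show hv 2 = vadd (hv 2) (lv 0) by decide +kernel]
    exact pol8_plane m 1 2 0 (by decide) (by decide) (by decide)
  let f : ↥(J ⊓ centralizer ({t} : Set G) : Subgroup G) →* Equiv.Perm V :=
    ρt.comp (Subgroup.inclusion inf_le_right)
  have hle : f.range ≤ oGroup := by
    rintro _ ⟨p, rfl⟩; exact ρ_mem T _
  have hp2 : IsPGroup 2 f.range := by
    rw [MonoidHom.range_eq_map]
    exact (((IsPGroup.of_card S.card_J).to_le inf_le_left).to_subgroup ⊤).map f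
  have hne : f ⟨a₁, hA₁⟩ * f ⟨a₂, hA₂⟩ ≠ f ⟨a₂, hA₂⟩ * f ⟨a₁, hA₁⟩ := by
    intro he
    apply hzJt
    have hz' : (⟨a₁, hA₁.2⟩ : ↥(centralizer ({t} : Set G))) * ⟨a₂, hA₂.2⟩ =
        ⟨a₂, hA₂.2⟩ * ⟨a₁, hA₁.2⟩ * ⟨z, hzt⟩ := Subtype.ext hz
    have h3 := congrArg ρt hz'
    simp only [map_mul] at h3
    rw [show ρt (⟨a₁, hA₁.2⟩ : ↥(centralizer ({t} : Set G))) * ρt ⟨a₂, hA₂.2⟩ =
      ρt ⟨a₂, hA₂.2⟩ * ρt ⟨a₁, hA₁.2⟩ from he] at h3
    exact (T.ρ_ker ⟨z, hzt⟩).mp (mul_eq_left.mp h3.symm)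
  have hlt := common_fix T hle hp2 ⟨_, rfl⟩ ⟨_, rfl⟩ hne
  obtain ⟨L, hL, hmem⟩ := card_fixed_A T S hzt ht hzJt
  have hfix : ∀ (p : G) (e : Fin 4) (hp : p ∈ J ⊓ centralizer ({t} : Set G)), φ p = hv e →
      ∀ v ∈ L, ρt ⟨p, hp.2⟩ v = v := by
    intro p e hp he v hv'
    obtain ⟨b, hb, rfl⟩ := hmem v hv'
    rw [← T.ρ_φ ⟨p, hp.2⟩ b hb.1]
    show φt (p * b * p⁻¹) = φt b
    rw [(centralises S T ht hzt hzJt hp.1 he hb).symm.eq, mul_inv_cancel_right]
  have := Finset.card_le_card (s := L)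
    (t := Finset.univ.filter fun v : V => f ⟨a₁, hA₁⟩ v = v ∧ f ⟨a₂, hA₂⟩ v = v) fun v hv' =>
      Finset.mem_filter.mpr
        ⟨Finset.mem_univ _, hfix a₁ 1 hA₁ he₁ v hv', hfix a₂ 2 hA₂ he₂ v hv'⟩
  omega

/-- With a fixed plane the involution is weakly closed in its centraliser. -/
theorem fixed [Finite G] (S : FixZ z a J m φ ρ) : H38.U6C.WC z := by
  intro x hx hconj
  by_contra hne
  obtain ⟨g, rfl⟩ := isConj_iff.mp hconj
  have T := transport S (MulAut.conj g)
  have hzt : z ∈ centralizer ({MulAut.conj g z} : Set G) :=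
    mem_centralizer_singleton_iff.mpr (mem_centralizer_singleton_iff.mp hx).symm
  refine step_outer_false S T hx hzt fun h => ?_
  exact hne (core_unique T h hconj.symm).symm

end H18.Fi22C
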