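import Cfsg.Agent.H18.Fi22C.Coords
import Cfsg.Agent.H18.Fi22C.Fixed
import Cfsg.Agent.H38.Fi22C.NonConj

/-!
With a fixed plane, isolation in the centralisers of `a` and `az` and a subgroup of index two
meeting `C(z)` in the inner part make `z` weakly closed in its centraliser.
-/

set_option autoImplicit false
set_option maxRecDepth 100000

namespace H18.Fi22C

open H38.U6C H39.Fi22C

universe u v

variable {G : Type u} [Group G]

theorem dead_subgroup {z e : G} (h : Dead z e) (G₁ : Subgroup G) (hz : z ∈ G₁) (he : e ∈ G₁) :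
    Dead (⟨z, hz⟩ : ↥G₁) (⟨e, he⟩ : ↥G₁) := by
  refine ⟨fun g h1 h2 => Subtype.ext ?_, fun P hP h1 h2 p hp => ?_⟩
  · exact h.1 (g : G) (congrArg Subtype.val h1.eq) (congrArg Subtype.val h2.eq)
  · refine Subtype.ext (h.2 (P.map G₁.subtype) (hP.map _) ?_ ?_ p ⟨p, hp, rfl⟩).eq
    · rintro _ ⟨q, hq, rfl⟩
      exact congrArg Subtype.val (h1 q hq).eq
    · rintro _ ⟨q, hq, rfl⟩
      exact ⟨_, h2 q hq, rfl⟩

theorem exists_fixZ [Finite G] {F : Type v} [Field F] [Fintype F] {z a : G} {J H₀ U : Subgroup G}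
    {π : ↥H₀ →* Cfsg.PSp 2 F} (S : Setup3 z a J H₀ π) (hU : FixJ z a J H₀ U) (hd : Dead z a)
    (hd' : Dead z (a * z)) {G₁ : Subgroup G}
    (hinf : G₁ ⊓ Subgroup.centralizer ({z} : Set G) = H₀) (hz : z ∈ G₁) (ha : a ∈ G₁) :
    ∃ (m : Bool) (φ : ↥G₁ → V)
      (ρ : ↥(Subgroup.centralizer ({(⟨z, hz⟩ : ↥G₁)} : Set ↥G₁)) →* Equiv.Perm V),
      FixZ (⟨z, hz⟩ : ↥G₁) ⟨a, ha⟩ (J.subgroupOf G₁) m φ ρ := by
  classical
  obtain ⟨m, φ, ρ₀, hmul, hsurj, hker, hsq, hcomm, hact, hρker, hrange⟩ := exists_coords S hU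
  set C := Subgroup.centralizer ({(⟨z, hz⟩ : ↥G₁)} : Set ↥G₁) with hC
  have hCH : ∀ g : ↥G₁, g ∈ C ↔ (g : G) ∈ H₀ := by
    intro g
    rw [hC, Subgroup.mem_centralizer_singleton_iff, ← hinf, Subgroup.mem_inf,
      Subgroup.mem_centralizer_singleton_iff, Subtype.ext_iff, Subgroup.coe_mul, Subgroup.coe_mul]
    exact ⟨fun h => ⟨g.2, h⟩, fun h => h.2⟩
  have hHG : H₀ ≤ G₁ := fun g hg => (hinf.symm ▸ hg : g ∈ G₁ ⊓ _).1
  let θ : ↥C →* ↥H₀ := (G₁.subtype.comp C.subtype).codRestrict H₀ fun g => (hCH g).1 g.2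
  have hθ : Function.Bijective θ :=
    ⟨fun p q h => Subtype.ext (Subtype.ext (congrArg Subtype.val h :)),
      fun h => ⟨⟨⟨h, hHG h.2⟩, (hCH _).2 h.2⟩, Subtype.ext rfl⟩⟩
  refine ⟨m, fun g => φ g, ρ₀.comp θ, ?_⟩
  refine
    { sq := Subtype.ext S.sq
      ne_one := fun h => S.ne_one (congrArg Subtype.val h)
      a_sq := Subtype.ext S.a_sq
      a_out := ⟨fun h => S.a_out.1 (congrArg Subtype.val h),
        fun h => S.a_out.2 (congrArg Subtype.val h)⟩
      le_cent := fun g hg => (hCH g).2 (S.J_le hg)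
      z_mem := S.z_mem
      a_mem := S.a_mem
      a_cent := fun g hg => Subtype.ext (S.a_H₀ _ ((hCH g).1 hg)).eq
      card_J := ?_
      conj_mem := fun g hg p hp => S.conj_mem _ (S.le_cent ((hCH g).1 hg)) _ hp
      φ_mul := fun p hp q hq => hmul _ hp _ hq
      φ_surj := fun w => ?_
      φ_ker := fun p hp => ?_
      φ_sq := fun p hp => Subtype.ext ?_
      φ_comm := fun p hp q hq => Subtype.ext ?_
      ρ_φ := fun g p hp => hact (θ g) p hp
      ρ_ker := fun g => hρker (θ g)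
      ρ_range := ?_
      card_cent := ?_
      perfect := fun f hf => ?_
      not_conj := ?_
      dead := ⟨dead_subgroup hd G₁ hz ha, ?_⟩ }
  · rw [Nat.card_congr (Subgroup.subgroupOfEquivOfLe (S.J_le.trans hHG)).toEquiv, S.card_J]
  · obtain ⟨p, hp, rfl⟩ := hsurj w
    exact ⟨⟨p, hHG (S.J_le hp)⟩, hp, rfl⟩
  · simp only [hker (p : G) hp, Subtype.ext_iff, Subgroup.coe_one, Subgroup.coe_mul]
  · rw [Subgroup.coe_mul, hsq (p : G) hp, apply_ite Subtype.val]
    rfl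
  · rw [Subgroup.coe_mul, Subgroup.coe_mul, Subgroup.coe_mul, hcomm (p : G) hp (q : G) hq,
      apply_ite Subtype.val]
    rfl
  · rw [MonoidHom.range_comp, MonoidHom.range_eq_top.2 hθ.2, ← MonoidHom.range_eq_map, hrange]
  · rw [Nat.card_eq_of_bijective _ hθ, S.card_H₀]
  · have := S.simple_psp
    let θe := MulEquiv.ofBijective θ hθ
    have hk : π.ker ≤ (f.comp θe.symm.toMonoidHom).ker := fun x hx => by
      refine hf _ ?_
      show ((θe.symm x : ↥C) : G) ∈ J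
      have e : ((θe.symm x : ↥C) : G) = x := congrArg Subtype.val (θe.apply_symm_apply x)
      rw [e]
      exact (S.π_ker x).1 hx
    set f' : Cfsg.PSp 2 F →* ℤˣ :=
      MonoidHom.liftOfSurjective π S.π_surj ⟨f.comp θe.symm.toMonoidHom, hk⟩ with hf'
    have h1 : f'.ker = ⊤ := by
      rcases IsSimpleGroup.eq_bot_or_eq_top_of_normal f'.ker (MonoidHom.normal_ker f') with h | h
      · exfalso
        have := Nat.card_le_card_of_injective f' ((MonoidHom.ker_eq_bot_iff f').1 h)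
        rw [S.card_psp, Nat.card_eq_fintype_card, Fintype.card_units_int] at this
        omega
      · exact h
    refine MonoidHom.ext fun x => ?_
    have h2 : f' (π (θe x)) = 1 := MonoidHom.mem_ker.1 (h1 ▸ Subgroup.mem_top _)
    rw [hf', MonoidHom.liftOfRightInverse_comp_apply] at h2
    simpa using h2
  · refine ⟨fun h => ?_, fun h => ?_⟩ <;>
      obtain ⟨g, hg⟩ := isConj_iff.1 (G₁.subtype.map_isConj h)
    · exact H38.Fi22C.not_conj_za S g hg
    · exact H38.Fi22C.not_conj_zaz S g hg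
  · exact dead_subgroup hd' G₁ hz (mul_mem ha hz)

/-- A subgroup of index two over the inner part gives weak closure in the case with a fixed
plane. -/
theorem wc_of_indexTwo [Finite G] {F : Type v} [Field F] [Fintype F] {z a : G}
    {J H₀ U : Subgroup G} {π : ↥H₀ →* Cfsg.PSp 2 F} (S : Setup3 z a J H₀ π)
    (hU : FixJ z a J H₀ U) (hd : Dead z a) (hd' : Dead z (a * z)) {G₁ : Subgroup G}
    (hidx : G₁.index = 2) (hinf : G₁ ⊓ Subgroup.centralizer ({z} : Set G) = H₀) : WC z := by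
  have hHG : H₀ ≤ G₁ := fun g hg => (hinf.symm ▸ hg : g ∈ G₁ ⊓ _).1
  have hz : z ∈ G₁ := hHG (S.J_le S.z_mem)
  have ha : a ∈ G₁ := hHG (S.J_le S.a_mem)
  obtain ⟨m, φ, ρ, T⟩ := exists_fixZ S hU hd hd' hinf hz ha
  obtain ⟨c, hc, hcH⟩ : ∃ c ∈ Subgroup.centralizer ({z} : Set G), c ∉ H₀ := by
    by_contra! h
    have := Subgroup.card_le_of_le h
    rw [S.card_cent, S.card_H₀] at this
    omega
  have hcG : c ∉ G₁ := fun h => hcH (hinf ▸ ⟨h, hc⟩)
  intro x hx hconj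
  obtain ⟨k, rfl⟩ := isConj_iff.1 hconj
  obtain ⟨k', hk', he⟩ : ∃ k' ∈ G₁, k' * z * k'⁻¹ = k * z * k⁻¹ := by
    by_cases hk : k ∈ G₁
    · exact ⟨k, hk, rfl⟩
    · refine ⟨k * c, (Subgroup.mul_mem_iff_of_index_two hidx).2
        ⟨fun h => absurd h hk, fun h => absurd h hcG⟩, ?_⟩
      have hcz : c * z * c⁻¹ = z :=
        mul_inv_eq_iff_eq_mul.2 (Subgroup.mem_centralizer_singleton_iff.1 hc)
      calc k * c * z * (k * c)⁻¹ = k * (c * z * c⁻¹) * k⁻¹ := by group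
        _ = k * z * k⁻¹ := by rw [hcz]
  have h := fixed T (⟨k', hk'⟩ * ⟨z, hz⟩ * (⟨k', hk'⟩ : ↥G₁)⁻¹)
    (Subgroup.mem_centralizer_singleton_iff.2 (Subtype.ext (by
      simp only [Subgroup.coe_mul, Subgroup.coe_inv, he]
      exact Subgroup.mem_centralizer_singleton_iff.1 hx)))
    (isConj_iff.2 ⟨⟨k', hk'⟩, rfl⟩)
  rw [← he]
  exact congrArg Subtype.val h

end H18.Fi22C
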