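import Cfsg.Agent.H64.Fi22C.Basic
import Cfsg.Agent.H64.U6E.Act

/-!
With a fixed plane the transfer to the inner half is non-trivial: the subgroup of index two of
S3232. The conjugates of `z` commuting with it being inner, the cosets counted for an element of
the core come in pairs, and those of a suitable outer element are the base one and pairs.
-/

set_option autoImplicit false
set_option maxRecDepth 100000
set_option linter.unusedSectionVars false

namespace H18.Fi22C.Transfer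

open H64.Fi22C H64.U6E
open H38.U6C (V vadd q8 pol8 refl8 refFun oGroup)
open H18.U6C (lv hv lo hi split_spec good good_low vadd_self vadd_assoc vadd_comm vadd_zero)
open Subgroup (centralizer mem_centralizer_singleton_iff)
open MulAction

theorem three_low : ∀ v : V, v.val < 64 → vadd (refFun 3 v) v = 0 ∨ vadd (refFun 3 v) v = 3 := by
  decide +kernel

theorem three_one : refFun 3 1 = 2 ∧ vadd (1 : V) 2 = 3 := by decide +kernel

theorem gam_three : ∀ v : V, v.val < 64 → gam (refFun 3 v) = refFun 3 (gam v) := by decide +kernel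

theorem three_fixed :
    (Finset.univ.filter fun v : V => refl8 3 v = v).card = 128 ∧
      (∀ v, refl8 3 (refl8 3 v) = v) ∧ refl8 3 1 ≠ 1 ∧ ∀ v, InE v → refFun 3 v = v := by
  decide +kernel

theorem dual_E : ∀ b₁ b₂ b₃ b₄ : Bool, ∃ v : V, v.val < 64 ∧ pol8 false v 4 = b₁ ∧
    pol8 false v 8 = b₂ ∧ pol8 false v 16 = b₃ ∧ pol8 false v 32 = b₄ := by decide +kernel

theorem pol_low_m : ∀ v : V, v.val < 64 → ∀ m : Bool,
    ∀ e ∈ ([4, 8, 16, 32] : List V), pol8 m v e = pol8 false v e := by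
  decide +kernel

theorem E_sums : ∀ e : V, InE e → e ∈ sums ([4, 8, 16, 32] : List V) := by decide +kernel

theorem low_zero_three : ∀ v : V, v.val < 64 → v.val % 64 < 4 → refFun 3 v = v → v = 0 ∨ v = 3 := by
  decide +kernel

theorem perp_low : ∀ m : Bool, ∀ v : V, (∀ e ∈ ([4, 8, 16, 32] : List V), pol8 m v e = false) →
    v.val % 64 < 4 := by decide +kernel

theorem refl_low : ∀ v : V, v.val < 64 → (refl8 3 v).val < 64 := by decide +kernel

theorem q8_three : ∀ m : Bool, q8 m 3 = true := by decide +kernel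

theorem hv_div : ∀ v : V, v.val % 64 = 0 → v = hv (hi v) := by decide +kernel

variable {G : Type*} [Group G] [Finite G] {z a : G} {J H₀ : Subgroup G} {m : Bool} {φ : G → V}
  {ρ : ↥(centralizer ({z} : Set G)) →* Equiv.Perm V}

variable (S : FixA z a J H₀ m φ ρ) (hinn : InnerHyp z H₀) (hcore : ∀ x ∈ J, IsConj z x → x = z)

include S

theorem refl_not : refl8 3 ∉ oGroup := by
  intro h
  obtain ⟨h64, -, -⟩ := invol S h (fun e => three_fixed.2.2.1 (by rw [e]; rfl))
    (Equiv.ext fun v => three_fixed.2.1 v)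
  have := three_fixed.1
  omega

include hinn in
/-- `z` does not count at any coset. -/
theorem not_out_z (c : G ⧸ centralizer ({z} : Set G)) (hc : z • c = c) : ¬ Out H₀ c z := fun h =>
  h (hinn _ (conj_mem_of_fix hc) (isConj_iff.2 ⟨c.out⁻¹, by rw [inv_inv]⟩))

omit S in
theorem isConj_pnt (c : G ⧸ centralizer ({z} : Set G)) : IsConj z (pnt c) :=
  isConj_iff.2 ⟨c.out, rfl⟩

include hinn hcore in
/-- The conjugate of `z` at a coset fixed by a subgroup containing `z`. -/
theorem pnt_inner {c : G ⧸ centralizer ({z} : Set G)}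
    (hcne : c ≠ ((1 : G) : G ⧸ centralizer ({z} : Set G))) (hz : z • c = c) :
    pnt c ∈ H₀ ∧ pnt c ∉ J ∧ pnt c * pnt c = 1 := by
  have hy : pnt c ∈ centralizer ({z} : Set G) := mem_cent ((smul_eq_iff z c).1 hz).symm
  exact ⟨hinn _ hy (isConj_pnt c), fun h => hcne (eq_base_of_pnt (hcore _ h (isConj_pnt c))),
    pnt_sq S.sq c⟩

omit S in
/-- The length of an orbit. -/
theorem orbit_card (Q : Subgroup G) (c : G ⧸ centralizer ({z} : Set G)) :
    Nat.card Q = Nat.card (orbit Q c) *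
      Nat.card ↥(Q ⊓ centralizer ({pnt c} : Set G) : Subgroup G) := by
  rw [Subgroup.card_eq_card_quotient_mul_card_subgroup (stabilizer Q c),
    Nat.card_congr (orbitEquivQuotientStabilizer Q c).symm]
  congr 1
  exact Nat.card_congr
    { toFun := fun q => (⟨((q : ↥Q) : G), (q : ↥Q).2,
        mem_cent ((smul_eq_iff _ c).1 q.2)⟩ : ↥(Q ⊓ centralizer ({pnt c} : Set G) : Subgroup G))
      invFun := fun q => ⟨⟨q.1, q.2.1⟩, (smul_eq_iff _ c).2 (comm_of_mem q.2.2)⟩
      left_inv := fun q => rfl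
      right_inv := fun q => rfl }

theorem card_sub {Q : Subgroup G} (h : Q ≤ J) : ∃ i ≤ 10, Nat.card Q = 2 ^ i :=
  (Nat.dvd_prime_pow Nat.prime_two).1 (S.card_J ▸ Subgroup.card_dvd_of_le h)

theorem orbit_pow {Q : Subgroup G} (h : Q ≤ J) (c : G ⧸ centralizer ({z} : Set G)) :
    ∃ i, Nat.card (orbit Q c) = 2 ^ i := by
  obtain ⟨i, -, hi⟩ := card_sub S h
  obtain ⟨k, -, hk⟩ := (Nat.dvd_prime_pow Nat.prime_two).1
    (hi ▸ Dvd.intro _ (orbit_card Q c).symm)
  exact ⟨k, hk⟩

theorem card_cent_J {p : G} (hp : p ∈ J) :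
    512 ≤ Nat.card ↥(J ⊓ centralizer ({p} : Set G) : Subgroup G) := by
  have h1 := ((centralizer ({p} : Set G)).subgroupOf J).card_mul_index
  rw [← Subgroup.inf_subgroupOf_left, Nat.card_congr
    (Subgroup.subgroupOfEquivOfLe (inf_le_left : J ⊓ centralizer ({p} : Set G) ≤ J)).toEquiv,
    S.card_J, Subgroup.inf_subgroupOf_left] at h1
  have h2 := cent_index_le S hp
  have h3 : 1024 ≤ Nat.card ↥(J ⊓ centralizer ({p} : Set G) : Subgroup G) * 2 := by
    refine le_trans (le_of_eq ?_) (Nat.mul_le_mul_left _ h2)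
    rw [h1]; norm_num
  omega

include hinn hcore in
/-- The cosets fixed by an element of the core at which it counts come in pairs. -/
theorem two_dvd_core {p : G} (hp : p ∈ J) :
    2 ∣ Nat.card {c : G ⧸ centralizer ({z} : Set G) // p • c = c ∧ Out H₀ c p} := by
  have hidx := relIndex_two S
  refine dvd_card (J ⊓ centralizer ({p} : Set G)) _ 2 ?_ ?_
  · rintro q ⟨-, hq⟩ c ⟨h1, h2⟩
    have hc := comm_of_mem hq
    exact ⟨by rw [← mul_smul, ← hc.eq, mul_smul, h1],
      (out_smul_comm hidx S.le_cent hc c).2 h2⟩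
  rintro c ⟨-, h2⟩
  set Q := J ⊓ centralizer ({p} : Set G) with hQ
  obtain ⟨i, hi⟩ := orbit_pow S (Q := Q) inf_le_left c
  rcases i with _ | i
  · exfalso
    have hcard := orbit_card Q c
    rw [hi, pow_zero, one_mul] at hcard
    have hle : Q ≤ centralizer ({pnt c} : Set G) := fun q hq => by
      have he := Subgroup.eq_of_le_of_card_ge
        (inf_le_left : Q ⊓ centralizer ({pnt c} : Set G) ≤ Q) hcard.le
      exact (he.symm ▸ hq : q ∈ Q ⊓ centralizer ({pnt c} : Set G)).2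
    have hzQ : z ∈ Q := ⟨S.z_mem, mem_cent (comm_of_mem (J_cent S hp)).symm⟩
    by_cases hcne : c = ((1 : G) : G ⧸ centralizer ({z} : Set G))
    · subst hcne
      obtain ⟨k, hk⟩ := QuotientGroup.mk_out_eq_mul (centralizer ({z} : Set G)) 1
      refine h2 ?_
      rw [hk, one_mul]
      exact (conj_mem_iff hidx S.le_cent k.2).2 (S.J_le hp)
    · obtain ⟨hy, hyJ, hy2⟩ := pnt_inner S hinn hcore hcne
        ((smul_eq_iff z c).2 (comm_of_mem (hle hzQ)))
      have h5 := card_cent_J S hp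
      rw [← hQ] at h5
      have h6 := (cent_le S hy hyJ hy2).1
      have h7 := Subgroup.card_le_of_le (le_inf inf_le_left hle :
        Q ≤ J ⊓ centralizer ({pnt c} : Set G))
      omega
  · exact ⟨2 ^ i, by rw [hi, pow_succ, mul_comm]⟩

include hinn hcore in
/-- The transfer is trivial on the core. -/
theorem transfer_core {p : G} (hp : p ∈ J) :
    MonoidHom.transfer (chi H₀ (relIndex_two S)) p = 1 := by
  have hidx := relIndex_two S
  have h2 : p * p = 1 ∨ p * p = z := by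
    rw [S.φ_sq p hp]; split_ifs <;> simp
  have h4 : p ^ 4 = 1 := by
    rw [show p ^ 4 = p * p * (p * p) by simp [pow_succ, mul_assoc]]
    rcases h2 with e | e <;> rw [e]
    exacts [one_mul 1, S.sq]
  rw [transfer_parity hidx S.le_cent p (by rw [show p ^ 8 = p ^ 4 * p ^ 4 by rw [← pow_add], h4,
    one_mul]) ?_ ?_]
  · obtain ⟨k, hk⟩ := two_dvd_core S hinn hcore hp
    rw [hk, pow_mul]; simp
  · haveI : IsEmpty {c : G ⧸ centralizer ({z} : Set G) //
        p • c ≠ c ∧ p ^ 2 • c = c ∧ Out H₀ c (p ^ 2)} :=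
      ⟨fun ⟨c, _, hc, h⟩ => by
        rw [pow_two] at hc h
        rcases h2 with e | e <;> rw [e] at hc h
        exacts [not_out_one h, not_out_z S hinn c hc h]⟩
    rw [Nat.card_of_isEmpty]
    exact dvd_zero _
  · haveI : IsEmpty {c : G ⧸ centralizer ({z} : Set G) //
        p ^ 2 • c ≠ c ∧ p ^ 4 • c = c ∧ Out H₀ c (p ^ 4)} :=
      ⟨fun ⟨c, _, _, h⟩ => by rw [h4] at h; exact not_out_one h⟩
    rw [Nat.card_of_isEmpty]
    exact dvd_zero _

/-- An outer element acting on the low part as the reflection in `3` has its square in the core. -/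
theorem sq_mem_J {g : G} (hg : g ∈ centralizer ({z} : Set G))
    (hlow : ∀ v : V, v.val < 64 → ρ ⟨g, hg⟩ v = refl8 3 v) : g * g ∈ J := by
  have hH := sq_mem_H₀ S hg
  refine (S.ρ_ker ⟨g * g, S.le_cent hH⟩).1 (Equiv.ext fun v => ?_)
  have he : ρ ⟨g * g, S.le_cent hH⟩ = ρ ⟨g, hg⟩ * ρ ⟨g, hg⟩ := by rw [← map_mul]; rfl
  rw [← split_spec v, ρ_add S,
    inner_plane S hH (show (hv (hi v)).val % 64 = 0 by simp [hv]), he, Equiv.Perm.mul_apply,
    hlow (lv (lo v)) (lo v).isLt]
  rw [Equiv.Perm.one_apply, hlow (refl8 3 (lv (lo v))) (refl_low (lv (lo v)) (lo v).isLt), three_fixed.2.1]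

/-- An element of order five commutes with the outer action. -/
theorem gam_comm {g : G} (hg : g ∈ centralizer ({z} : Set G))
    (hlow : ∀ v : V, v.val < 64 → ρ ⟨g, hg⟩ v = refl8 3 v) :
    ρ ⟨g, hg⟩ * gam = gam * ρ ⟨g, hg⟩ := by
  refine Equiv.ext fun v => ?_
  obtain ⟨k, hkH, hk⟩ := oGroup_act S gam_mem
  have hadd : ∀ u w, gam (vadd u w) = vadd (gam u) (gam w) := by rw [← hk]; exact ρ_add S k
  have hp : (hv (hi v)).val % 64 = 0 := by simp [hv]
  rw [Equiv.Perm.mul_apply, Equiv.Perm.mul_apply, ← split_spec v, hadd, ρ_add S, ρ_add S, hadd,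
    (good gam_mem).2, hv_div _ (S.plane ⟨g, hg⟩ _ hp), (good gam_mem).2,
    hlow (lv (lo v)) (lo v).isLt, hlow (gam (lv (lo v))) (good_low gam_mem (v := lv (lo v)) (lo v).isLt)]
  exact congrArg _ (gam_three _ (lo v).isLt).symm

/-- An outer element twists a lift of a vector of `E` at most by `z`. -/
theorem twist_E {g : G} (hg : g ∈ centralizer ({z} : Set G))
    (hlow : ∀ v : V, v.val < 64 → ρ ⟨g, hg⟩ v = refl8 3 v) {e : V} (he : InE e) :
    ∃ p ∈ J, φ p = e ∧ (g * p * g⁻¹ = p ∨ g * p * g⁻¹ = p * z) := by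
  obtain ⟨x, hxE, hxe⟩ := gam_onto e he
  obtain ⟨h, hhH, hh⟩ := oGroup_act S gam_mem
  obtain ⟨s, hs, hsx⟩ := S.φ_surj x
  have hhs := S.conj_mem (h : G) h.2 s hs
  refine ⟨(h : G) * s * (h : G)⁻¹ * s⁻¹, mul_mem hhs (inv_mem hs), ?_, ?_⟩
  · rw [S.φ_mul _ hhs _ (inv_mem hs), φ_conj S h.2 hs, φ_inv S hs, hsx, hh, hxe]
  obtain ⟨r, hr, hgs⟩ := φ_eq S hs (S.conj_mem g hg s hs)
    (by rw [φ_conj S hg hs, hsx, hlow _ hxE.1]; exact (three_fixed.2.2.2 x hxE).symm)
  have hgh : g * (h : G) * g⁻¹ ∈ H₀ := S.conj_H₀ g hg _ hhH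
  have hj : g * (h : G) * g⁻¹ * (h : G)⁻¹ ∈ J := by
    refine (S.ρ_ker (⟨g, hg⟩ * h * ⟨g, hg⟩⁻¹ * h⁻¹)).1 ?_
    rw [map_mul, map_mul, map_mul, map_inv, map_inv, hh, gam_comm S hg hlow]
    group
  set k := (g * (h : G) * g⁻¹ * (h : G)⁻¹) with hk
  have hr' : Commute r (k * (h : G) : G) := inW_comm S hr (by rw [hk, inv_mul_cancel_right]; exact hgh)
  have hrs : Commute r s := inW_comm S hr (S.J_le hs)
  have e1 : g * ((h : G) * s * (h : G)⁻¹ * s⁻¹) * g⁻¹ =
      k * ((h : G) * s * (h : G)⁻¹) * k⁻¹ * s⁻¹ := by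
    calc g * ((h : G) * s * (h : G)⁻¹ * s⁻¹) * g⁻¹
        = (k * (h : G)) * (g * s * g⁻¹) * (k * (h : G))⁻¹ * (g * s * g⁻¹)⁻¹ := by rw [hk]; group
      _ = (k * (h : G)) * s * (r * (k * (h : G))⁻¹) * r⁻¹ * s⁻¹ := by rw [hgs]; group
      _ = (k * (h : G)) * s * (k * (h : G))⁻¹ * s⁻¹ := by rw [hr'.inv_right.eq]; group
      _ = _ := by group
  rw [e1, conj_eq S hj hhs]
  have hzs : Commute z s⁻¹ := (comm_of_mem (J_cent S hs)).symm.inv_right
  split_ifs
  · right; rw [mul_assoc, hzs.eq, ← mul_assoc]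
  · left; rw [mul_one]

/-- An outer element with square in the core centralising lifts of all vectors of `E`. -/
theorem exists_elt : ∃ g : G, ∃ hg : g ∈ centralizer ({z} : Set G), g ∉ H₀ ∧
    (∀ v : V, v.val < 64 → ρ ⟨g, hg⟩ v = refl8 3 v) ∧
      ∀ e, InE e → ∃ p ∈ J, φ p = e ∧ Commute g p := by
  classical
  obtain ⟨⟨g, hg⟩, hgH, hlow⟩ := S.outer
  choose p hp hpe htw using fun e (he : InE e) => twist_E S hg hlow he
  have hb : ∀ e, InE e → ∃ b : Bool, ∃ q ∈ J, φ q = e ∧
      g * q * g⁻¹ = q * if b then z else 1 := fun e he => by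
    rcases htw e he with h | h
    · exact ⟨false, p e he, hp e he, hpe e he, by simpa using h⟩
    · exact ⟨true, p e he, hp e he, hpe e he, by simpa using h⟩
  obtain ⟨b₁, q₁, hq₁, e₁, t₁⟩ := hb 4 (by decide)
  obtain ⟨b₂, q₂, hq₂, e₂, t₂⟩ := hb 8 (by decide)
  obtain ⟨b₃, q₃, hq₃, e₃, t₃⟩ := hb 16 (by decide)
  obtain ⟨b₄, q₄, hq₄, e₄, t₄⟩ := hb 32 (by decide)
  obtain ⟨v, hv64, d₁, d₂, d₃, d₄⟩ := dual_E b₁ b₂ b₃ b₄
  obtain ⟨j, hj, rfl⟩ := S.φ_surj v
  have hg' : g * j ∈ centralizer ({z} : Set G) := mul_mem hg (J_cent S hj)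
  have hρ : ρ ⟨g * j, hg'⟩ = ρ ⟨g, hg⟩ := by
    rw [show (⟨g * j, hg'⟩ : ↥(centralizer ({z} : Set G))) = ⟨g, hg⟩ * ⟨j, J_cent S hj⟩ from rfl,
      map_mul, (S.ρ_ker ⟨j, J_cent S hj⟩).2 hj, mul_one]
  refine ⟨g * j, hg', fun h => hgH ((H₀.mul_mem_cancel_right (S.J_le hj)).1 h),
    fun v hv => by rw [hρ]; exact hlow v hv, fun e he => ?_⟩
  have hcomm : ∀ (q : G) (b : Bool) (u : V), q ∈ J → φ q = u → u ∈ ([4, 8, 16, 32] : List V) →
      pol8 false (φ j) u = b → g * q * g⁻¹ = q * (if b then z else 1) → Commute (g * j) q := by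
    intro q b u hq hqu hu hb ht
    refine comm_of_conj ?_
    rw [show g * j * q * (g * j)⁻¹ = g * (j * q * j⁻¹) * g⁻¹ by group, conj_eq S hj hq, hqu,
      pol_low_m _ hv64 m u hu, hb]
    cases b
    · simpa using ht
    · simp only [if_true] at ht ⊢
      rw [show g * (q * z) * g⁻¹ = g * q * g⁻¹ * (g * z * g⁻¹) by group, ht, conj_z S hg,
        mul_assoc, S.sq, mul_one]
  have key : ∀ l : List V, (∀ u ∈ l, ∃ q ∈ J, φ q = u ∧ Commute (g * j) q) →
      ∀ u ∈ sums l, ∃ q ∈ J, φ q = u ∧ Commute (g * j) q := by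
    intro l
    induction l with
    | nil =>
      intro _ u hu
      simp only [sums, List.mem_singleton] at hu
      exact ⟨1, one_mem J, by rw [φ_one S, hu], Commute.one_right _⟩
    | cons b l ih =>
      intro hl u hu
      have ih' := ih fun w hw => hl w (List.mem_cons_of_mem b hw)
      simp only [sums, List.mem_append, List.mem_map] at hu
      rcases hu with hu | ⟨w, hw, rfl⟩
      · exact ih' u hu
      · obtain ⟨q, hq, hqb, hqc⟩ := hl b (List.mem_cons_self ..)
        obtain ⟨q', hq', hqw, hqc'⟩ := ih' w hw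
        exact ⟨q * q', mul_mem hq hq', by rw [S.φ_mul _ hq _ hq', hqb, hqw], hqc.mul_right hqc'⟩
  refine key _ ?_ e (E_sums e he)
  intro u hu
  simp only [List.mem_cons, List.not_mem_nil, or_false] at hu
  rcases hu with rfl | rfl | rfl | rfl
  exacts [⟨q₁, hq₁, e₁, hcomm _ _ _ hq₁ e₁ (by decide) d₁ t₁⟩,
    ⟨q₂, hq₂, e₂, hcomm _ _ _ hq₂ e₂ (by decide) d₂ t₂⟩,
    ⟨q₃, hq₃, e₃, hcomm _ _ _ hq₃ e₃ (by decide) d₃ t₃⟩,
    ⟨q₄, hq₄, e₄, hcomm _ _ _ hq₄ e₄ (by decide) d₄ t₄⟩]

variable {g : G} (hg : g ∈ centralizer ({z} : Set G)) (hgn : g ∉ H₀)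
  (hlow : ∀ v : V, v.val < 64 → ρ ⟨g, hg⟩ v = refl8 3 v)
  (hE : ∀ e, InE e → ∃ p ∈ J, φ p = e ∧ Commute g p)

include hg hgn hlow hE

theorem low_sq : lv (lo (φ (g * g))) = 0 ∨ lv (lo (φ (g * g))) = 3 := by
  have hw := sq_mem_J S hg hlow
  have h1 : (φ (g * g)).val % 64 < 4 := perp_low m _ fun e he => by
    obtain ⟨p, hp, rfl, hgp⟩ := hE e (by
      simp only [List.mem_cons, List.not_mem_nil, or_false] at he
      rcases he with rfl | rfl | rfl | rfl <;> decide)
    exact (commute_iff S hw hp).1 (hgp.mul_left hgp)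
  have h2 : ρ ⟨g, hg⟩ (φ (g * g)) = φ (g * g) :=
    ρ_fix S hg hw ((Commute.refl g).mul_right (Commute.refl g))
  refine low_zero_three _ (lo (φ (g * g))).isLt (by simp only [lv, lo]; omega) ?_
  rw [← split_spec (φ (g * g)), ρ_add S, hlow (lv (lo (φ (g * g)))) (lo (φ (g * g))).isLt] at h2
  have h4 : ∀ u w : V, u.val % 64 = 0 → w.val < 64 → lv (lo (vadd u w)) = w := by decide +kernel
  have h5 := congrArg (fun v => lv (lo v)) h2
  try simp only [] at h5
  rw [h4 _ _ (S.plane ⟨g, hg⟩ _ (by simp [hv])) (refl_low _ (lo (φ (g * g))).isLt),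
    h4 _ _ (by simp [hv]) (lo (φ (g * g))).isLt] at h5
  exact h5

include hinn hcore in
/-- Only the base coset is fixed by the outer element and its centraliser in the core. -/
theorem fixed_base {c : G ⧸ centralizer ({z} : Set G)}
    (hcne : c ≠ ((1 : G) : G ⧸ centralizer ({z} : Set G))) (hgc : g • c = c)
    (hall : J ⊓ centralizer ({g} : Set G) ≤ centralizer ({pnt c} : Set G)) : False := by
  obtain ⟨hy, hyJ, -⟩ := pnt_inner S hinn hcore hcne ((smul_eq_iff z c).2
    (comm_of_mem (hall ⟨S.z_mem, mem_cent (comm_of_mem hg).symm⟩)))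
  have hgy := (smul_eq_iff g c).1 hgc
  set f := ρ ⟨pnt c, S.le_cent hy⟩ with hf
  have ho : f ∈ oGroup := inner_mem S hy
  have hcm : f * ρ ⟨g, hg⟩ = ρ ⟨g, hg⟩ * f := by
    rw [hf, ← map_mul, ← map_mul]; exact congrArg ρ (Subtype.ext hgy.symm.eq)
  have hadd : ∀ u v, f (vadd u v) = vadd (f u) (f v) := ρ_add S _
  obtain ⟨h64, h128, hl⟩ := oGroup_top ho
  have hE' : ∀ e, InE e → f e = e := fun e he => by
    obtain ⟨p, hp, rfl, hgp⟩ := hE e he
    exact ρ_fix S _ hp (comm_of_mem (hall ⟨hp, mem_cent hgp.symm⟩)).symm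
  have hf2 : f 2 = refFun 3 (f 1) := by
    have := DFunLike.congr_fun hcm 1
    rw [Equiv.Perm.mul_apply, Equiv.Perm.mul_apply, hlow 1 (by decide),
      hlow _ (hl 1 (by decide))] at this
    rw [show (2 : V) = refl8 3 1 from three_one.1.symm]
    exact this
  have hf3 : f 3 = 3 := by
    rcases three_low (f 1) (hl 1 (by decide)) with h | h
    · exfalso
      have h0 : f 0 = 0 := by
        have := hadd 0 0
        rwa [vadd_self, vadd_self] at this
      have : f 3 = f 0 := by rw [h0, ← h, ← hf2, vadd_comm, ← hadd, three_one.2]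
      exact absurd (f.injective this) (by decide)
    · rw [← three_one.2, hadd, hf2, vadd_comm, h, three_one.2]
  rcases fix_cases m hadd (ρ_q S _) h64 h128 (hl 1 (by decide)) hf3 hE' with h | h
  · exact hyJ ((S.ρ_ker ⟨pnt c, S.le_cent hy⟩).1 (Equiv.ext h))
  · exact refl_not S ((Equiv.ext h : f = refl8 3) ▸ ho)

include hinn hcore in
theorem odd_fixed :
    Odd (Nat.card {c : G ⧸ centralizer ({z} : Set G) // g • c = c ∧ Out H₀ c g}) := by
  classical
  haveI : Fintype (G ⧸ centralizer ({z} : Set G)) := Fintype.ofFinite _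
  set c₀ := ((1 : G) : G ⧸ centralizer ({z} : Set G)) with hc₀
  have hidx := relIndex_two S
  have hfix : ∀ x ∈ centralizer ({z} : Set G), x • c₀ = c₀ := fun x hx =>
    (smul_eq_iff x c₀).2 (by rw [hc₀, pnt_one]; exact comm_of_mem hx)
  set Q := J ⊓ centralizer ({g} : Set G) with hQ
  have h2 : 2 ∣ Nat.card {c : G ⧸ centralizer ({z} : Set G) //
      c ≠ c₀ ∧ g • c = c ∧ Out H₀ c g} := by
    refine dvd_card Q _ 2 ?_ ?_
    · rintro q ⟨hq, hqg⟩ c ⟨h1, h2, h3⟩
      have hqg' : Commute q g := comm_of_mem hqg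
      refine ⟨fun h => h1 ?_, ?_, (out_smul_comm hidx S.le_cent hqg' c).2 h3⟩
      · rw [← inv_smul_smul q c, h]
        exact hfix _ (J_cent S (inv_mem hq))
      · rw [← mul_smul, ← hqg'.eq, mul_smul, h2]
    · rintro c ⟨h1, h2, -⟩
      obtain ⟨i, hi⟩ := orbit_pow S (Q := Q) inf_le_left c
      rcases i with _ | i
      · exfalso
        have hcard := orbit_card Q c
        rw [hi, pow_zero, one_mul] at hcard
        refine fixed_base S hinn hcore hg hgn hlow hE h1 h2 fun q hq => ?_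
        have he := Subgroup.eq_of_le_of_card_ge
          (inf_le_left : Q ⊓ centralizer ({pnt c} : Set G) ≤ Q) hcard.le
        exact (he.symm ▸ hq : q ∈ Q ⊓ centralizer ({pnt c} : Set G)).2
      · exact ⟨2 ^ i, by rw [hi, pow_succ, mul_comm]⟩
  have hbase : g • c₀ = c₀ ∧ Out H₀ c₀ g :=
    ⟨hfix g hg, fun h => hgn ((conj_mem_iff hidx S.le_cent (k := c₀.out) (by
      obtain ⟨k, hk⟩ := QuotientGroup.mk_out_eq_mul (centralizer ({z} : Set G)) 1
      rw [hc₀, hk, one_mul]
      exact k.2)).1 h)⟩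
  rw [Nat.card_eq_fintype_card, Fintype.card_subtype] at h2 ⊢
  rw [show (Finset.univ.filter fun c => c ≠ c₀ ∧ g • c = c ∧ Out H₀ c g) =
    (Finset.univ.filter fun c => g • c = c ∧ Out H₀ c g).erase c₀ by
      ext c; simp [Finset.mem_erase]] at h2
  rw [← Finset.card_erase_add_one (Finset.mem_filter.2 ⟨Finset.mem_univ c₀, hbase⟩)]
  exact (even_iff_two_dvd.2 h2).add_one

include hinn hcore in
/-- The cosets at which the square counts come in fours. -/
theorem four_dvd :
    4 ∣ Nat.card {c : G ⧸ centralizer ({z} : Set G) //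
      g • c ≠ c ∧ g ^ 2 • c = c ∧ Out H₀ c (g ^ 2)} := by
  classical
  have hidx := relIndex_two S
  have hw := sq_mem_J S hg hlow
  by_cases hwz : g * g = 1 ∨ g * g = z
  · haveI : IsEmpty {c : G ⧸ centralizer ({z} : Set G) //
        g • c ≠ c ∧ g ^ 2 • c = c ∧ Out H₀ c (g ^ 2)} :=
      ⟨fun ⟨c, _, hc, h⟩ => by
        rw [pow_two] at hc h
        rcases hwz with e | e <;> rw [e] at hc h
        exacts [not_out_one h, not_out_z S hinn c hc h]⟩
    rw [Nat.card_of_isEmpty]
    exact dvd_zero _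
  refine Nat.dvd_trans ?_ (dvd_of_eq (Nat.card_congr (Equiv.subtypeEquivRight
    (p := fun c : G ⧸ centralizer ({z} : Set G) => (g * g) • c = c ∧ Out H₀ c (g * g))
    fun c => ?_)))
  swap
  · rw [pow_two]
    exact ⟨fun h => ⟨fun hgc => sq_not_out hidx hgc h.2, h⟩, fun h => h.2⟩
  refine dvd_card (J ⊓ centralizer ({g * g} : Set G)) _ 4 ?_ ?_
  · rintro q ⟨-, hq⟩ c ⟨h1, h2⟩
    have hc := comm_of_mem hq
    exact ⟨by rw [← mul_smul, ← hc.eq, mul_smul, h1],
      (out_smul_comm hidx S.le_cent hc c).2 h2⟩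
  rintro c ⟨-, hOut⟩
  set Q := J ⊓ centralizer ({g * g} : Set G) with hQ
  obtain ⟨i, hi⟩ := orbit_pow S (Q := Q) inf_le_left c
  rcases i with _ | _ | i
  case succ.succ => exact ⟨2 ^ i, by rw [hi, pow_succ, pow_succ]; ring⟩
  all_goals
    exfalso
    have hcard := orbit_card Q c
    have h512 := card_cent_J S hw
    rw [← hQ] at h512
    have hcne : c ≠ ((1 : G) : G ⧸ centralizer ({z} : Set G)) := fun h => by
      subst h
      obtain ⟨k, hk⟩ := QuotientGroup.mk_out_eq_mul (centralizer ({z} : Set G)) 1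
      refine hOut ?_
      rw [hk, one_mul]
      exact (conj_mem_iff hidx S.le_cent k.2).2 (S.J_le hw)
    have hzc : z • c = c := by
      -- a square root of `z` in `Q` and an orbit of at most two cosets
      obtain ⟨s, hs, hsK, hss⟩ := exists_sq S (K := centralizer ({g * g} : Set G))
        ((cent_index_le S hw).trans (by norm_num))
      have hidx' : (stabilizer Q c).index = Nat.card (orbit Q c) := by
        rw [index_stabilizer, Nat.card_coe_set_eq]
      have hor : (stabilizer Q c).index = 1 ∨ (stabilizer Q c).index = 2 := by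
        rw [hidx', hi]; norm_num
      have hmem : (⟨s, hs, hsK⟩ : ↥Q) * ⟨s, hs, hsK⟩ ∈ stabilizer Q c := by
        rcases hor with h | h
        · rw [Subgroup.index_eq_one.1 h]; exact Subgroup.mem_top _
        · exact Subgroup.mul_self_mem_of_index_two h _
      have h1 : (s * s) • c = c := hmem
      rwa [hss] at h1
    obtain ⟨hy, hyJ, hy2⟩ := pnt_inner S hinn hcore hcne hzc
    obtain ⟨hle, heq⟩ := cent_le S hy hyJ hy2
    have hsub := Subgroup.card_le_of_le (inf_le_inf_right _ inf_le_left :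
      Q ⊓ centralizer ({pnt c} : Set G) ≤ J ⊓ centralizer ({pnt c} : Set G))
    rw [hi] at hcard
    have h256 : Nat.card ↥(Q ⊓ centralizer ({pnt c} : Set G) : Subgroup G) = 256 ∧
        Nat.card ↥(J ⊓ centralizer ({pnt c} : Set G) : Subgroup G) = 256 := by omega
    have hsame := Subgroup.eq_of_le_of_card_ge (inf_le_inf_right _ inf_le_left :
      Q ⊓ centralizer ({pnt c} : Set G) ≤ J ⊓ centralizer ({pnt c} : Set G)) (by omega)
    -- every lift of a fixed vector commutes with the square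
    set f := ρ ⟨pnt c, S.le_cent hy⟩ with hf
    have hfw : ∀ p ∈ J, f (φ p) = φ p → Commute (pnt c) p ∧ Commute p (g * g) := fun p hp hfp => by
      have h1 := heq h256.2 p hp hfp
      have h2 : p ∈ Q ⊓ centralizer ({pnt c} : Set G) := by
        rw [hsame]; exact ⟨hp, mem_cent h1.symm⟩
      exact ⟨h1, comm_of_mem h2.1.2⟩
    have hperp : ∀ v : V, f v = v → pol8 m (φ (g * g)) v = false := fun v hv' => by
      obtain ⟨p, hp, rfl⟩ := S.φ_surj v
      exact (commute_iff S hw hp).1 (hfw p hp hv').2.symm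
    have hplane : ∀ v : V, v.val % 64 = 0 → f v = v := fun v hv' => inner_plane S hy hv'
    have hlw : (φ (g * g)).val < 64 :=
      low_of_perp m _ (hperp 64 (hplane 64 (by decide))) (hperp 128 (hplane 128 (by decide)))
    have hw3 : φ (g * g) = 3 := by
      have h := low_sq S hg hgn hlow hE
      rw [H18.U6C.lv_of_lt hlw] at h
      refine h.resolve_left fun h0 => ?_
      -- a central square leaves the whole core in the stabiliser's bound
      rcases (S.φ_ker _ hw).1 h0 with e | e | e | e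
      · exact hwz (Or.inl e)
      · exact hwz (Or.inr e)
      all_goals
        have hQJ : Q = J := inf_eq_left.2 fun p hp => mem_cent
          (inW_comm S (by rw [e]; simp [InW]) (S.J_le hp)).symm
        rw [hQJ, S.card_J] at hcard
        omega
    obtain ⟨ho, h1, h2⟩ := inner_invol S hy hyJ hy2
    obtain ⟨-, -, himg⟩ := invol S ho h1 h2
    obtain ⟨x, hx⟩ := himg (φ (g * g)) hlw fun v _ hv' => hperp v hv'
    obtain ⟨j, hj, rfl⟩ := S.φ_surj x
    have hyj := S.conj_mem (pnt c) (S.le_cent hy) j hj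
    set p := pnt c * j * (pnt c)⁻¹ * j⁻¹ with hp_def
    have hp : p ∈ J := mul_mem hyj (inv_mem hj)
    have hφp : φ p = φ (g * g) := by
      rw [hp_def, S.φ_mul _ hyj _ (inv_mem hj), φ_conj S (S.le_cent hy) hj, φ_inv S hj, hx]
    have hfp : f (φ p) = φ p := by
      rw [hφp, ← hx, ρ_add S, ← Equiv.Perm.mul_apply, h2, Equiv.Perm.one_apply,
        H18.U6C.vadd_comm]
    have hpy := conj_of_comm (hfw p hp hfp).1
    have hinv : pnt c * p * (pnt c)⁻¹ = p⁻¹ := by
      have hi' : (pnt c)⁻¹ = pnt c := inv_eq_of_mul_eq_one_right hy2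
      calc pnt c * p * (pnt c)⁻¹ =
            pnt c * pnt c * j * ((pnt c)⁻¹ * j⁻¹ * (pnt c)⁻¹) := by rw [hp_def]; group
        _ = j * (pnt c * j⁻¹ * (pnt c)⁻¹) := by rw [hy2, one_mul]; nth_rw 1 [hi']
        _ = p⁻¹ := by rw [hp_def]; group
    have hpp : p * p = 1 := by rw [← inv_mul_cancel p, ← hinv, hpy]
    rw [S.φ_sq p hp, hφp, hw3, if_pos (q8_three m)] at hpp
    exact S.ne_one hpp

omit hg hgn hlow hE in
/-- The transfer gives a subgroup of index two. -/
theorem exists_indexTwo (hinn : InnerHyp z H₀) (hcore : ∀ x ∈ J, IsConj z x → x = z) :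
    ∃ G₁ : Subgroup G, G₁.index = 2 ∧ G₁ ⊓ centralizer ({z} : Set G) = H₀ := by
  classical
  have hidx := relIndex_two S
  obtain ⟨g, hg, hgn, hlow, hE⟩ := exists_elt S
  obtain ⟨T, hT⟩ : ∃ T : G →* ℤˣ, T = MonoidHom.transfer (chi H₀ hidx) := ⟨_, rfl⟩
  have hw := sq_mem_J S hg hlow
  have hw2 : g * g * (g * g) = 1 ∨ g * g * (g * g) = z := by
    rw [S.φ_sq _ hw]; split_ifs <;> simp
  have h4 : g ^ 4 = 1 ∨ g ^ 4 = z := by
    rw [show g ^ 4 = g * g * (g * g) by simp [pow_succ, mul_assoc]]; exact hw2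
  have hTg : T g = -1 := by
    rw [hT, transfer_parity hidx S.le_cent g ?_ (four_dvd S hinn hcore hg hgn hlow hE) ?_]
    · exact (odd_fixed S hinn hcore hg hgn hlow hE).neg_one_pow
    · rw [show g ^ 8 = g ^ 4 * g ^ 4 by rw [← pow_add]]
      rcases h4 with e | e <;> rw [e]
      exacts [one_mul 1, S.sq]
    · haveI : IsEmpty {c : G ⧸ centralizer ({z} : Set G) //
          g ^ 2 • c ≠ c ∧ g ^ 4 • c = c ∧ Out H₀ c (g ^ 4)} :=
        ⟨fun ⟨c, _, hc, h⟩ => by
          rcases h4 with e | e <;> rw [e] at hc h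
          exacts [not_out_one h, not_out_z S hinn c hc h]⟩
      rw [Nat.card_of_isEmpty]
      exact dvd_zero _
  have hH : ∀ h ∈ H₀, T h = 1 := fun h hh => by
    have hJ : ∀ p : ↥H₀, (p : G) ∈ J → (T.comp H₀.subtype) p = 1 := fun p hp => by
      rw [MonoidHom.comp_apply, Subgroup.coe_subtype, hT]
      exact transfer_core S hinn hcore hp
    have h1 := DFunLike.congr_fun (S.perfect (T.comp H₀.subtype) hJ) ⟨h, hh⟩
    rwa [MonoidHom.comp_apply, Subgroup.coe_subtype, MonoidHom.one_apply] at h1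
  refine ⟨T.ker, ?_, le_antisymm ?_ (le_inf hH S.le_cent)⟩
  · have hr : T.range = ⊤ := eq_top_iff.2 fun u _ => by
      rcases Int.units_eq_one_or u with rfl | rfl
      · exact one_mem _
      · exact ⟨g, hTg⟩
    rw [Subgroup.index_ker, hr, Subgroup.card_top, Nat.card_eq_fintype_card,
      Fintype.card_units_int]
  · rintro x ⟨hx1, hx2⟩
    by_contra hx
    have hmem : g * x ∈ H₀ := (mul_mem_iff S hg hx2).2 (iff_of_false hgn hx)
    have := hH _ hmem
    rw [map_mul, hTg, MonoidHom.mem_ker.1 hx1] at this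
    exact absurd this (by decide)

end H18.Fi22C.Transfer

namespace H18.Fi22C

universe u

/-- The transfer gives a subgroup of index two: `H64.Fi22C.TransferStmt`. -/
theorem transfer : H64.Fi22C.TransferStmt.{u} :=
  fun S hinn hcore => Transfer.exists_indexTwo S hinn hcore

end H18.Fi22C
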