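import Cfsg.Agent.H18.Fi22C.DeadFix
import Cfsg.Agent.H18.Fi22C.Glue
import Cfsg.Agent.H18.Fi22C.Transfer
import Cfsg.Agent.H35.Fi22C.Coord
import Cfsg.Agent.H64.Fi22C.Outer

/-!
With a fixed plane `z` is weakly closed: the pieces put together, given weak closure in the core.
-/

set_option autoImplicit false

namespace H18.Fi22C

universe u v

/-- The case with fixed dimensions, from the statement on the core. -/
theorem fixWC_of_jcore (hJ : H64.Fi22C.JCoreStmt.{u}) : H39.Fi22C.FixWCStmt.{u, v} := by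
  intro G _ _ F _ _ z a J H₀ U π S hU
  obtain ⟨hd, hd'⟩ := dead_both S hU
  obtain ⟨m, φ, ρ, A⟩ := H35.Fi22C.coord S hU hd hd'
  have hinn := H64.Fi22C.outer A
  obtain ⟨G₁, hidx, hinf⟩ := transfer A hinn fun x hx hc => hJ A hinn x hx hc
  exact wc_of_indexTwo S hU hd hd' hidx hinf

end H18.Fi22C
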