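import Cfsg.Agent.H50.Fi22C.Quot
import Cfsg.Agent.H46.U6C.Fix8Main

/-!
Coordinates on the core for the inner part of the centraliser when `J/Z(J)` has a fixed plane,
pulled back from the inner part modulo `⟨a⟩`.
-/

set_option autoImplicit false
set_option maxRecDepth 100000

namespace H18.Fi22C

open H38.U6C H39.Fi22C H50.Fi22C

universe u v

/-- The coordinates from a fixed plane. -/
theorem exists_coords {G : Type u} [Group G] [Finite G] {F : Type v} [Field F] [Fintype F]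
    {z a : G} {J H₀ U : Subgroup G} {π : ↥H₀ →* Cfsg.PSp 2 F}
    (S : Setup3 z a J H₀ π) (hU : FixJ z a J H₀ U) :
    ∃ (m : Bool) (φ : G → V) (ρ₀ : ↥H₀ →* Equiv.Perm V),
      (∀ p ∈ J, ∀ q ∈ J, φ (p * q) = vadd (φ p) (φ q)) ∧ (∀ v, ∃ p ∈ J, φ p = v) ∧
      (∀ p ∈ J, (φ p = 0 ↔ p = 1 ∨ p = z ∨ p = a ∨ p = a * z)) ∧
      (∀ p ∈ J, p * p = if q8 m (φ p) then z else 1) ∧
      (∀ p ∈ J, ∀ q ∈ J, p * q = q * p * if pol8 m (φ p) (φ q) then z else 1) ∧
      (∀ (g : ↥H₀) (p : G), p ∈ J → φ ((g : G) * p * (g : G)⁻¹) = ρ₀ g (φ p)) ∧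
      (∀ g : ↥H₀, ρ₀ g = 1 ↔ (g : G) ∈ J) ∧ ρ₀.range = oGroup := by
  classical
  have := aSub_normal S
  obtain ⟨π', hB⟩ := base_quot S
  set zH : ↥H₀ := ⟨z, S.J_le S.z_mem⟩ with hzH
  set zq := pr S zH with hzq
  have hzg : ∀ g ∈ H₀, z * g = g * z := fun g hg =>
    Subgroup.mem_centralizer_iff.1 (S.le_cent hg) z rfl
  have hza : z * a = a * z := hzg a (S.J_le S.a_mem)
  have hsurj : ∀ q, ∃ x : ↥H₀, pr S x = q := QuotientGroup.mk'_surjective _
  have hall : ∀ q : Q S, q ∈ Subgroup.centralizer ({zq} : Set (Q S)) := fun q => by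
    obtain ⟨x, rfl⟩ := hsurj q
    exact Subgroup.mem_centralizer_singleton_iff.2 ((Commute.map (show Commute zH x from
      Subtype.ext (hzg x x.2)) (pr S)).eq.symm)
  have h4 : ∀ x : ↥H₀, (pr S x = 1 ∨ pr S x = zq) ↔
      ((x : G) = 1 ∨ (x : G) = z ∨ (x : G) = a ∨ (x : G) = a * z) := by
    intro x
    rw [← map_one (pr S), hzq, eq_comm, @eq_comm _ (pr S x) (pr S zH), pr_eq S, pr_eq S,
      Subgroup.coe_one, one_mul, hzH, Subtype.coe_mk, hza]
    tauto
  have hmem : ∀ x : ↥H₀, pr S x ∈ (J.subgroupOf H₀).map (pr S) ↔ (x : G) ∈ J := by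
    refine fun x => ⟨?_, fun hx => ⟨x, hx, rfl⟩⟩
    rintro ⟨y, hy, hyx⟩
    rcases (pr_eq S).1 hyx with h | h <;> rw [h]
    exacts [hy, mul_mem hy S.a_mem]
  have hUH : U ≤ H₀ := hU.le.trans S.J_le
  have hfix2 : Fixed2 zq ((J.subgroupOf H₀).map (pr S)) ((U.subgroupOf H₀).map (pr S)) := by
    refine ⟨Subgroup.map_mono fun x hx => hU.le hx, ⟨zH, hU.z_mem, rfl⟩, ?_, ?_, ?_⟩
    · let f : ↥(U.subgroupOf H₀) →* Q S := (pr S).comp (Subgroup.subtype _)
      have hr : f.range = (U.subgroupOf H₀).map (pr S) := by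
        rw [MonoidHom.range_comp, Subgroup.range_subtype]
      have hk : Nat.card f.ker = 2 := by
        have e : Set.range (fun x : f.ker => (((x : ↥(U.subgroupOf H₀)) : ↥H₀) : G)) = {1, a} := by
          ext x
          simp only [Set.mem_range, Set.mem_insert_iff, Set.mem_singleton_iff]
          constructor
          · rintro ⟨⟨y, hy⟩, rfl⟩
            exact (mem_aSub S).1 ((QuotientGroup.eq_one_iff _).1 hy)
          · rintro (rfl | rfl)
            · exact ⟨1, rfl⟩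
            · exact ⟨⟨⟨⟨x, S.J_le S.a_mem⟩, hU.a_mem⟩,
                (QuotientGroup.eq_one_iff _).2 ((mem_aSub S).2 (Or.inr rfl))⟩, rfl⟩
        have e' := congrArg Set.ncard e
        rwa [Set.ncard_pair S.a_out.1.symm, ← Nat.card_coe_set_eq,
          Nat.card_range_of_injective (fun p q h => Subtype.ext (Subtype.ext (Subtype.ext h)))] at e'
      have h1 := Subgroup.card_mul_index f.ker
      rw [Subgroup.index_ker, hr, hk, Nat.card_congr (Subgroup.subgroupOfEquivOfLe hUH).toEquiv,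
        hU.card] at h1
      omega
    · rintro _ ⟨y, hy, rfl⟩ hc
      refine (h4 y).2 (hU.nondeg _ hy fun q hq => ?_)
      have h := hc _ ⟨⟨q, hUH hq⟩, hq, rfl⟩
      rw [commute_iff_eq, ← map_mul, ← map_mul, pr_eq S] at h
      rcases S.comm_mem (y : G) (hU.le hy) q (hU.le hq) with e | e
      · exact e
      · exfalso
        rcases h with h | h
        · have h' : q * (y : G) = (y : G) * q := h
          rw [e, left_eq_mul] at h'
          exact S.ne_one h'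
        · have h' : q * (y : G) = (y : G) * q * a := h
          rw [e, mul_assoc, left_eq_mul, hza] at h'
          exact az_ne S h'
    · rintro g - _ ⟨y, hy, rfl⟩
      obtain ⟨x, rfl⟩ := hsurj g
      have h := (h4 (y⁻¹ * (x * y * x⁻¹))).2 (hU.fix x x.2 y hy)
      rw [map_mul, map_mul, map_mul, map_inv, map_inv, inv_mul_eq_one, inv_mul_eq_iff_eq_mul] at h
      exact h.imp Eq.symm id
  obtain ⟨m, φ₀, ρ, N⟩ := H46.U6C.fix8 hB hfix2
  let φ : G → V := fun g => if h : g ∈ H₀ then φ₀ (pr S ⟨g, h⟩) else 0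
  have hφ : ∀ (p : G) (hp : p ∈ J), φ p = φ₀ (pr S ⟨p, S.J_le hp⟩) := fun p hp => dif_pos _
  have hm : ∀ {p : G} (hp : p ∈ J), pr S ⟨p, S.J_le hp⟩ ∈ (J.subgroupOf H₀).map (pr S) :=
    fun hp => (hmem _).2 hp
  let lift : ↥H₀ →* ↥(Subgroup.centralizer ({zq} : Set (Q S))) :=
    (pr S).codRestrict _ fun x => hall (pr S x)
  refine ⟨m, φ, ρ.comp lift, fun p hp q hq => ?_, fun w => ?_, fun p hp => ?_, fun p hp => ?_,
    fun p hp q hq => ?_, fun g p hp => ?_, fun g => ?_, ?_⟩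
  · rw [hφ _ (mul_mem hp hq), hφ p hp, hφ q hq, ← N.φ_mul _ (hm hp) _ (hm hq), ← map_mul]
    rfl
  · obtain ⟨_, ⟨x, hx, rfl⟩, rfl⟩ := N.φ_surj w
    exact ⟨x, hx, hφ x hx⟩
  · rw [hφ p hp, N.φ_ker _ (hm hp)]
    exact h4 ⟨p, S.J_le hp⟩
  · have h := N.φ_sq _ (hm hp)
    rw [← map_mul] at h
    rw [hφ p hp]
    rcases S.sq_mem p hp with e | e <;>
      cases hq : q8 m (φ₀ (pr S ⟨p, S.J_le hp⟩)) <;> rw [hq] at h <;>
      simp only [Bool.false_eq_true, if_false, if_true] at h ⊢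
    · exact e
    · exfalso
      rw [show (⟨p, S.J_le hp⟩ * ⟨p, S.J_le hp⟩ : ↥H₀) = 1 from Subtype.ext e, map_one] at h
      exact hB.ne_one h.symm
    · exfalso
      rw [show (⟨p, S.J_le hp⟩ * ⟨p, S.J_le hp⟩ : ↥H₀) = zH from Subtype.ext e] at h
      exact hB.ne_one h
    · exact e
  · have h := N.φ_comm _ (hm hp) _ (hm hq)
    rw [← map_mul, ← map_mul] at h
    rw [hφ p hp, hφ q hq]
    cases hpol : pol8 m (φ₀ (pr S ⟨p, S.J_le hp⟩)) (φ₀ (pr S ⟨q, S.J_le hq⟩)) <;> rw [hpol] at h <;>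
      simp only [Bool.false_eq_true, if_false, if_true, mul_one] at h ⊢
    · rcases S.comm_mem p hp q hq with e | e
      · exact e
      · exfalso
        rw [show (⟨p, S.J_le hp⟩ * ⟨q, S.J_le hq⟩ : ↥H₀) =
          ⟨q, S.J_le hq⟩ * ⟨p, S.J_le hp⟩ * zH from Subtype.ext e, map_mul, mul_eq_left] at h
        exact hB.ne_one h
    · rcases S.comm_mem p hp q hq with e | e
      · exfalso
        rw [show (⟨p, S.J_le hp⟩ * ⟨q, S.J_le hq⟩ : ↥H₀) =
          ⟨q, S.J_le hq⟩ * ⟨p, S.J_le hp⟩ from Subtype.ext e, left_eq_mul] at h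
        exact hB.ne_one h
      · exact e
  · have hpg := S.conj_mem (g : G) (S.le_cent g.2) p hp
    have h := N.ρ_φ (lift g) _ (hm hp)
    rw [hφ p hp, hφ _ hpg, MonoidHom.comp_apply, ← h]
    show _ = φ₀ (pr S g * pr S ⟨p, S.J_le hp⟩ * (pr S g)⁻¹)
    rw [← map_inv, ← map_mul, ← map_mul]
    rfl
  · rw [MonoidHom.comp_apply, N.ρ_ker]
    exact hmem g
  · have hsl : Function.Surjective lift := fun q => by
      obtain ⟨x, hx⟩ := hsurj q.1
      exact ⟨x, Subtype.ext hx⟩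
    rw [MonoidHom.range_comp, MonoidHom.range_eq_top.2 hsl, ← MonoidHom.range_eq_map, N.ρ_range]

end H18.Fi22C
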