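import Cfsg.Agent.H38.Fi22C.Dich

/-!
A fixed plane in `J/Z(J)` makes `z` isolated in the centraliser of `a` (and, applied to the other
involution of the centre, of `az`).
-/

set_option autoImplicit false
set_option linter.unusedSectionVars false

namespace H18.Fi22C

open H39.Fi22C H38.U6C H2.U6E H38.Fi22C

universe u v

variable {G : Type u} [Group G] [Finite G] {F : Type v} [Field F] [Fintype F] {z a : G}
  {J H₀ U : Subgroup G} {π : ↥H₀ →* Cfsg.PSp 2 F}

/-- The other involution of the centre fixes the same plane. -/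
theorem fixJ_az (S : Setup3 z a J H₀ π) (hU : FixJ z a J H₀ U) :
    FixJ z (a * z) J H₀ U := by
  have e : a * z * z = a := by rw [mul_assoc, S.sq, mul_one]
  refine ⟨hU.le, hU.z_mem, mul_mem hU.a_mem hU.z_mem, hU.card, fun u hu h => ?_,
    fun g hg u hu => ?_⟩
  · rw [e]
    rcases hU.nondeg u hu h with h' | h' | h' | h'
    exacts [Or.inl h', Or.inr (Or.inl h'), Or.inr (Or.inr (Or.inr h')), Or.inr (Or.inr (Or.inl h'))]
  · rw [e]
    rcases hU.fix g hg u hu with h' | h' | h' | h'
    exacts [Or.inl h', Or.inr (Or.inl h'), Or.inr (Or.inr (Or.inr h')), Or.inr (Or.inr (Or.inl h'))]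

section image

variable {Q : Type u} [Group Q] {f : ↥(Subgroup.centralizer ({a} : Set G)) →* Q}

theorem image_le (S : Setup3 z a J H₀ π) (hU : FixJ z a J H₀ U) : im f U ≤ im f J :=
  im_mono f hU.le

theorem image_card [Finite Q] (S : Setup3 z a J H₀ π) (hU : FixJ z a J H₀ U)
    (hs : Function.Surjective f) (hk : ∀ g, f g = 1 ↔ ((g : G) = 1 ∨ (g : G) = a)) :
    Nat.card (im f U) = 8 := by
  have := card_im S hs hk hU.a_mem fun j hj => H₀_le_ca S (S.J_le (hU.le hj))
  rw [hU.card] at this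
  omega

theorem image_nondeg (S : Setup3 z a J H₀ π) (hU : FixJ z a J H₀ U)
    (hk : ∀ g, f g = 1 ↔ ((g : G) = 1 ∨ (g : G) = a)) {p : Q} (hp : p ∈ im f U)
    (hc : ∀ q ∈ im f U, Commute p q) : p = 1 ∨ p = f (zA S) := by
  obtain ⟨i, hi, rfl⟩ := hp
  have hall : ∀ q ∈ U, Commute (i : G) q := fun q hq => by
    rcases S.comm_mem (i : G) (hU.le hi) q (hU.le hq) with h | h
    · exact h
    exfalso
    let j : ↥(Subgroup.centralizer ({a} : Set G)) := ⟨q, H₀_le_ca S (S.J_le (hU.le hq))⟩
    have h1 := (hc (f j) ⟨j, hq, rfl⟩).eq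
    have h2 : f i * f j = f j * f i * f (zA S) := by
      rw [← map_mul, ← map_mul, ← map_mul, show i * j = j * i * zA S from Subtype.ext h]
    rw [h1] at h2
    exact zA_ne S hk (left_eq_mul.1 h2)
  rcases hU.nondeg _ hi hall with h | h | h | h
  · left; exact (hk _).2 (Or.inl h)
  · right; rw [show i = zA S from Subtype.ext h]
  · left; exact (hk _).2 (Or.inr h)
  · right
    rw [show i = ⟨a, H₀_le_ca S (S.J_le S.a_mem)⟩ * zA S from Subtype.ext h, map_mul,
      (hk _).2 (Or.inr rfl), one_mul]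

theorem image_fix (S : Setup3 z a J H₀ π) (hU : FixJ z a J H₀ U)
    (hk : ∀ g, f g = 1 ↔ ((g : G) = 1 ∨ (g : G) = a)) {g p : Q} (hg : g ∈ im f H₀)
    (hp : p ∈ im f U) : g * p * g⁻¹ = p ∨ g * p * g⁻¹ = p * f (zA S) := by
  obtain ⟨x, hx, rfl⟩ := hg
  obtain ⟨i, hi, rfl⟩ := hp
  have key : f (i⁻¹ * (x * i * x⁻¹)) = 1 ∨ f (i⁻¹ * (x * i * x⁻¹)) = f (zA S) := by
    rcases hU.fix _ hx _ hi with h | h | h | h
    · left; exact (hk _).2 (Or.inl h)
    · right; rw [show i⁻¹ * (x * i * x⁻¹) = zA S from Subtype.ext h]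
    · left; exact (hk _).2 (Or.inr h)
    · right
      rw [show i⁻¹ * (x * i * x⁻¹) = ⟨a, H₀_le_ca S (S.J_le S.a_mem)⟩ * zA S from Subtype.ext h,
        map_mul, (hk _).2 (Or.inr rfl), one_mul]
  rw [map_mul, map_mul, map_mul, map_inv, map_inv, inv_mul_eq_one, inv_mul_eq_iff_eq_mul] at key
  exact key.imp Eq.symm id

end image

/-- A fixed plane makes the side of `a` dead. -/
theorem dead_of_fix (S : Setup3 z a J H₀ π) (hU : FixJ z a J H₀ U) : Dead z a := by
  haveI := kerA_normal a
  let f := QuotientGroup.mk' (kerA a)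
  have hs : Function.Surjective f := QuotientGroup.mk'_surjective _
  have hk : ∀ g, f g = 1 ↔ ((g : G) = 1 ∨ (g : G) = a) := fun g =>
    (QuotientGroup.eq_one_iff g).trans (mem_kerA S.a_sq g)
  obtain ⟨π', hπs, hπk⟩ := exists_proj S hk
  obtain ⟨hc1, hc2, hc3, hc4, hc5⟩ := core_image S hs hk
  by_cases hsw : Swap z a
  · have hcent : Subgroup.centralizer
        ({f (zA S)} : Set (↥(Subgroup.centralizer ({a} : Set G)) ⧸ kerA a)) = im f H₀ := by
      rw [im_cent S hs hk]
      refine le_antisymm ?_ (im_mono f S.le_cent)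
      rintro _ ⟨x, hx, rfl⟩
      exact ⟨x, mem_H₀_of_swap S hsw hx x.2, rfl⟩
    have hB : H38.U6C.Base (f (zA S)) (im f J)
        (π'.comp (MulEquiv.subgroupCongr hcent).toMonoidHom) :=
      ⟨S.card_F, zA_sq S, zA_ne S hk, fun p hp => hcent ▸ im_mono f S.J_le hp,
        ⟨zA S, S.z_mem, rfl⟩, card_im_J S hs hk, hc1, hc2, hc3, hc4, hc5,
        hπs.comp (MulEquiv.subgroupCongr hcent).surjective, fun g => hπk _,
        hcent ▸ card_im_H₀ S hs hk⟩
    have hF : Fixed2 (f (zA S)) (im f J) (im f U) :=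
      ⟨image_le S hU, ⟨zA S, hU.z_mem, rfl⟩, image_card S hU hs hk,
        fun p hp hc => image_nondeg S hU hk hp hc,
        fun g hg p hp => image_fix S hU hk (hcent ▸ hg) hp⟩
    exact dead_of_wc S hs hk (fixedDirect hB hF)
  · have hns : NoSwap z a := fun g hg => (S.conj_a g hg).elim
      (fun h => mul_inv_eq_iff_eq_mul.1 h) (fun h => absurd ⟨g, hg, h⟩ hsw)
    have hle : Subgroup.centralizer ({z} : Set G) ≤ Subgroup.centralizer ({a} : Set G) :=
      fun g hg => Subgroup.mem_centralizer_singleton_iff.2 (hns g hg).eq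
    have hcent := im_cent S hs hk
    have hH : a ∈ H₀ := S.J_le S.a_mem
    have hS : H2.U6E.Setup (f (zA S)) (im f J) (im f H₀) π' :=
      { card_F := S.card_F
        sq := zA_sq S
        ne_one := zA_ne S hk
        le_cent := hcent ▸ im_mono f S.le_cent
        J_le := im_mono f S.J_le
        z_mem := ⟨zA S, S.z_mem, rfl⟩
        card_J := card_im_J S hs hk
        conj_mem := hc1
        conj_H₀ := by
          rw [hcent]
          rintro _ ⟨x, hx, rfl⟩ _ ⟨h, hh, rfl⟩
          exact ⟨x * h * x⁻¹, S.conj_H₀ _ hx _ hh, by simp⟩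
        out_mul := by
          rw [hcent]
          rintro _ ⟨x, hx, rfl⟩ _ ⟨y, hy, rfl⟩ hxn hyn
          rw [mem_im S hk hH] at hxn hyn
          rw [← map_mul, mem_im S hk hH]
          exact S.out_mul _ hx _ hy hxn hyn
        sq_mem := hc2
        comm_mem := hc3
        center := hc4
        self_cent := hc5
        inner := by
          rw [hcent]
          rintro _ ⟨x, hx, rfl⟩ hc
          refine (mem_im S hk hH x).2 (S.inner _ hx fun h hh => ?_)
          have := hc (f ⟨h, H₀_le_ca S hh⟩) ⟨_, hh, rfl⟩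
          rw [← map_inv, ← map_inv, ← map_mul, ← map_mul, ← map_mul, mem_im S hk S.a_mem] at this
          exact this
        π_surj := hπs
        π_ker := hπk
        card_cent := by
          have := card_im S hs hk (J_cent S S.a_mem) hle
          rw [S.card_cent] at this
          rw [hcent]
          omega
        card_H₀ := card_im_H₀ S hs hk
        card_psp := S.card_psp
        simple_psp := S.simple_psp }
    have hUH : im f U ≤ im f H₀ := im_mono f (hU.le.trans S.J_le)
    have hF : Fixed2 (G := ↥(im f H₀)) ⟨f (zA S), hS.J_le hS.z_mem⟩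
        ((im f J).subgroupOf (im f H₀)) ((im f U).subgroupOf (im f H₀)) := by
      refine ⟨fun p hp => image_le S hU hp, ⟨zA S, hU.z_mem, rfl⟩, ?_, fun p hp hc => ?_,
        fun g _ p hp => ?_⟩
      · rw [Nat.card_congr (Subgroup.subgroupOfEquivOfLe hUH).toEquiv, image_card S hU hs hk]
      · exact (image_nondeg S hU hk hp fun q hq =>
          congrArg Subtype.val (hc ⟨q, hUH hq⟩ hq).eq).imp (fun h => Subtype.ext h)
          (fun h => Subtype.ext h)
      · exact (image_fix S hU hk g.2 hp).imp (fun h => Subtype.ext h) (fun h => Subtype.ext h)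
    obtain ⟨G₀, hidx, hi⟩ := H64.U6E.indexTwoFixed H46.U6C.fix8 hS _ hF
    have hb := base_half hS hi
    have hf := fixed_half hS hi hF
    exact dead_of_wc S hs hk (wc_of_half hS hi hidx
      (H55.U6C.wc_of_fixed2 hb (H55.U6C.Fx.wcj_fixed hb hf) hf))

/-- A fixed plane makes both sides dead. -/
theorem dead_both (S : Setup3 z a J H₀ π) (hU : FixJ z a J H₀ U) :
    Dead z a ∧ Dead z (a * z) :=
  ⟨dead_of_fix S hU, dead_of_fix (setup_az S) (fixJ_az S hU)⟩

end H18.Fi22C
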