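import Cfsg.Agent.H18.Fi22C.DeadFix
import Cfsg.Agent.H64.Fi22C.Defs

/-!
A fixed plane makes the side of `a` dead: `H64.Fi22C.DeadFixStmt`.
-/

set_option autoImplicit false

namespace H18.Fi22C

universe u v

/-- A fixed plane makes the side of `a` dead. -/
theorem deadFix : H64.Fi22C.DeadFixStmt.{u, v} := fun S hU => dead_of_fix S hU

end H18.Fi22C
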