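import Cfsg.Agent.H18.Fi22C.Glue
import Cfsg.Agent.H64.Fi22C.Defs

/-!
A subgroup of index two over the inner half gives weak closure: `H64.Fi22C.GlueStmt`.
-/

set_option autoImplicit false
set_option maxRecDepth 100000

namespace H18.Fi22C

open H38.U6C H64.Fi22C

universe u

/-- Weak closure from the subgroup of index two. -/
theorem glue : GlueStmt.{u} := by
  classical
  intro G _ _ z a J H₀ m φ ρ S G₁ hidx hinf
  have hHG : H₀ ≤ G₁ := fun g hg => (hinf.symm ▸ hg : g ∈ G₁ ⊓ _).1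
  have hz : z ∈ G₁ := hHG (S.J_le S.z_mem)
  have ha : a ∈ G₁ := hHG (S.J_le S.a_mem)
  set C := Subgroup.centralizer ({(⟨z, hz⟩ : ↥G₁)} : Set ↥G₁) with hC
  have hCH : ∀ g : ↥G₁, g ∈ C ↔ (g : G) ∈ H₀ := by
    intro g
    rw [hC, Subgroup.mem_centralizer_singleton_iff, ← hinf, Subgroup.mem_inf,
      Subgroup.mem_centralizer_singleton_iff, Subtype.ext_iff, Subgroup.coe_mul, Subgroup.coe_mul]
    exact ⟨fun h => ⟨g.2, h⟩, fun h => h.2⟩
  let θ : ↥C →* ↥(Subgroup.centralizer ({z} : Set G)) :=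
    (G₁.subtype.comp C.subtype).codRestrict _ fun g => S.le_cent ((hCH g).1 g.2)
  let θ₀ : ↥C →* ↥H₀ := (G₁.subtype.comp C.subtype).codRestrict H₀ fun g => (hCH g).1 g.2
  have hθ : Function.Bijective θ₀ :=
    ⟨fun p q h => Subtype.ext (Subtype.ext (congrArg Subtype.val h :)),
      fun h => ⟨⟨⟨h, hHG h.2⟩, (hCH _).2 h.2⟩, Subtype.ext rfl⟩⟩
  have hrange : θ.range = H₀.subgroupOf (Subgroup.centralizer ({z} : Set G)) := by
    ext g
    constructor
    · rintro ⟨p, rfl⟩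
      exact (hCH p).1 p.2
    · intro hg
      exact ⟨⟨⟨g, hHG hg⟩, (hCH _).2 hg⟩, Subtype.ext rfl⟩
  have T : FixZ (⟨z, hz⟩ : ↥G₁) ⟨a, ha⟩ (J.subgroupOf G₁) m (fun g => φ g) (ρ.comp θ) := by
    refine
      { sq := Subtype.ext S.sq
        ne_one := fun h => S.ne_one (congrArg Subtype.val h)
        a_sq := Subtype.ext S.a_sq
        a_out := ⟨fun h => S.a_out.1 (congrArg Subtype.val h),
          fun h => S.a_out.2 (congrArg Subtype.val h)⟩
        le_cent := fun g hg => (hCH g).2 (S.J_le hg)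
        z_mem := S.z_mem
        a_mem := S.a_mem
        a_cent := fun g hg => Subtype.ext (S.a_H₀ _ ((hCH g).1 hg)).eq
        card_J := ?_
        conj_mem := fun g hg p hp => S.conj_mem _ (S.le_cent ((hCH g).1 hg)) _ hp
        φ_mul := fun p hp q hq => S.φ_mul _ hp _ hq
        φ_surj := fun w => ?_
        φ_ker := fun p hp => ?_
        φ_sq := fun p hp => Subtype.ext ?_
        φ_comm := fun p hp q hq => Subtype.ext ?_
        ρ_φ := fun g p hp => S.ρ_φ (θ g) p hp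
        ρ_ker := fun g => S.ρ_ker (θ g)
        ρ_range := ?_
        card_cent := ?_
        perfect := fun f hf => ?_
        not_conj := ?_
        dead := ⟨dead_subgroup S.dead.1 G₁ hz ha, ?_⟩ }
    · rw [Nat.card_congr (Subgroup.subgroupOfEquivOfLe (S.J_le.trans hHG)).toEquiv, S.card_J]
    · obtain ⟨p, hp, rfl⟩ := S.φ_surj w
      exact ⟨⟨p, hHG (S.J_le hp)⟩, hp, rfl⟩
    · simp only [S.φ_ker (p : G) hp, Subtype.ext_iff, Subgroup.coe_one, Subgroup.coe_mul]
    · rw [Subgroup.coe_mul, S.φ_sq (p : G) hp, apply_ite Subtype.val]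
      rfl
    · rw [Subgroup.coe_mul, Subgroup.coe_mul, Subgroup.coe_mul,
        S.φ_comm (p : G) hp (q : G) hq, apply_ite Subtype.val]
      rfl
    · rw [MonoidHom.range_comp, hrange, S.range₀]
    · rw [Nat.card_eq_of_bijective _ hθ, S.card_H₀]
    · let θe := MulEquiv.ofBijective θ₀ hθ
      have h := S.perfect (f.comp θe.symm.toMonoidHom) fun p hp => hf _ (by
        show ((θe.symm p : ↥C) : G) ∈ J
        have e : ((θe.symm p : ↥C) : G) = p := congrArg Subtype.val (θe.apply_symm_apply p)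
        rw [e]; exact hp)
      refine MonoidHom.ext fun x => ?_
      simpa using DFunLike.congr_fun h (θe x)
    · exact ⟨fun h => S.not_conj.1 (G₁.subtype.map_isConj h),
        fun h => S.not_conj.2 (G₁.subtype.map_isConj h)⟩
    · exact dead_subgroup S.dead.2 G₁ hz (mul_mem ha hz)
  obtain ⟨c, hc, hcH⟩ : ∃ c ∈ Subgroup.centralizer ({z} : Set G), c ∉ H₀ := by
    obtain ⟨g, hg, -⟩ := S.outer
    exact ⟨g, g.2, hg⟩
  have hcG : c ∉ G₁ := fun h => hcH (hinf ▸ ⟨h, hc⟩)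
  intro x hx hconj
  obtain ⟨k, rfl⟩ := isConj_iff.1 hconj
  obtain ⟨k', hk', he⟩ : ∃ k' ∈ G₁, k' * z * k'⁻¹ = k * z * k⁻¹ := by
    by_cases hk : k ∈ G₁
    · exact ⟨k, hk, rfl⟩
    · refine ⟨k * c, (Subgroup.mul_mem_iff_of_index_two hidx).2
        ⟨fun h => absurd h hk, fun h => absurd h hcG⟩, ?_⟩
      have hcz : c * z * c⁻¹ = z :=
        mul_inv_eq_iff_eq_mul.2 (Subgroup.mem_centralizer_singleton_iff.1 hc)
      calc k * c * z * (k * c)⁻¹ = k * (c * z * c⁻¹) * k⁻¹ := by group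
        _ = k * z * k⁻¹ := by rw [hcz]
  have h := fixed T (⟨k', hk'⟩ * ⟨z, hz⟩ * (⟨k', hk'⟩ : ↥G₁)⁻¹)
    (Subgroup.mem_centralizer_singleton_iff.2 (Subtype.ext (by
      simp only [Subgroup.coe_mul, Subgroup.coe_inv, he]
      exact Subgroup.mem_centralizer_singleton_iff.1 hx)))
    (isConj_iff.2 ⟨⟨k', hk'⟩, rfl⟩)
  rw [← he]
  exact congrArg Subtype.val h

end H18.Fi22C
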