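import Cfsg.Agent.H18.U6C.Model
import Cfsg.Agent.H39.Fi22C.Basic

/-!
The centraliser `(2 × 2^(1+8)).U₄(2)` read on the model with a fixed plane: the structure and the
facts about the group induced on the model.
-/

set_option autoImplicit false
set_option maxRecDepth 100000

namespace H18.Fi22C

open scoped Pointwise
open H18.U6C (lv hv low app app_lv app_app_lv perm perm_apply perm_zero perm_fix_iff T T_le card_T
  comm_spec fixTab fix_spec count64 big_spec bigTab big_card low_of_sq low_of_comm invol_count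
  invol_pair perp_spec basis_spec fixBasis pol8_low card_lift conj_fix good good_low lo lo_lv
  lv_of_lt vadd_val pow_lt app_comp commTab)
open H38.U6C (V vadd q6 pol6 pol8 q8 refFun refl8 oGroup IsRefVec)

/-- The core `⟨a⟩ × 2^(1+8)` with centre `{1, z, a, az}` on the model with a fixed plane, in a group
where the centraliser of `z` induces only inner automorphisms. -/
structure FixZ {G : Type*} [Group G] (z a : G) (J : Subgroup G) (m : Bool) (φ : G → V)
    (ρ : ↥(Subgroup.centralizer ({z} : Set G)) →* Equiv.Perm V) : Prop where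
  sq : z * z = 1
  ne_one : z ≠ 1
  a_sq : a * a = 1
  a_out : a ≠ 1 ∧ a ≠ z
  le_cent : J ≤ Subgroup.centralizer ({z} : Set G)
  z_mem : z ∈ J
  a_mem : a ∈ J
  a_cent : ∀ g ∈ Subgroup.centralizer ({z} : Set G), Commute a g
  card_J : Nat.card J = 2 ^ 10
  conj_mem : ∀ g ∈ Subgroup.centralizer ({z} : Set G), ∀ p ∈ J, g * p * g⁻¹ ∈ J
  φ_mul : ∀ p ∈ J, ∀ q ∈ J, φ (p * q) = vadd (φ p) (φ q)
  φ_surj : ∀ v, ∃ p ∈ J, φ p = v
  φ_ker : ∀ p ∈ J, (φ p = 0 ↔ p = 1 ∨ p = z ∨ p = a ∨ p = a * z)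
  φ_sq : ∀ p ∈ J, p * p = if q8 m (φ p) then z else 1
  φ_comm : ∀ p ∈ J, ∀ q ∈ J, p * q = q * p * if pol8 m (φ p) (φ q) then z else 1
  ρ_φ : ∀ (g : ↥(Subgroup.centralizer ({z} : Set G))) (p : G), p ∈ J →
    φ ((g : G) * p * (g : G)⁻¹) = ρ g (φ p)
  ρ_ker : ∀ g : ↥(Subgroup.centralizer ({z} : Set G)), ρ g = 1 ↔ (g : G) ∈ J
  ρ_range : ρ.range = oGroup
  card_cent : Nat.card (Subgroup.centralizer ({z} : Set G)) = 2 ^ 10 * 25920
  perfect : ∀ f : ↥(Subgroup.centralizer ({z} : Set G)) →* ℤˣ,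
    (∀ p : ↥(Subgroup.centralizer ({z} : Set G)), (p : G) ∈ J → f p = 1) → f = 1
  not_conj : ¬ IsConj z a ∧ ¬ IsConj z (a * z)
  dead : H39.Fi22C.Dead z a ∧ H39.Fi22C.Dead z (a * z)

variable {G : Type*} [Group G] {z a : G} {J : Subgroup G} {m : Bool} {φ : G → V}
  {ρ : ↥(Subgroup.centralizer ({z} : Set G)) →* Equiv.Perm V}

theorem act_add (S : FixZ z a J m φ ρ) {h : Equiv.Perm V} (hh : h ∈ oGroup) (v w : V) :
    h (vadd v w) = vadd (h v) (h w) := by
  rw [← S.ρ_range] at hh
  obtain ⟨g, rfl⟩ := hh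
  obtain ⟨a, ha, rfl⟩ := S.φ_surj v
  obtain ⟨b, hb, rfl⟩ := S.φ_surj w
  rw [← S.φ_mul a ha b hb, ← S.ρ_φ g _ (mul_mem ha hb), ← S.ρ_φ g a ha, ← S.ρ_φ g b hb,
    ← S.φ_mul _ (S.conj_mem _ g.2 a ha) _ (S.conj_mem _ g.2 b hb)]
  congr 1
  group

theorem act_pol (S : FixZ z a J m φ ρ) {h : Equiv.Perm V} (hh : h ∈ oGroup) (v w : V) :
    pol8 m (h v) (h w) = pol8 m v w := by
  rw [← S.ρ_range] at hh
  obtain ⟨g, rfl⟩ := hh
  obtain ⟨a, ha, rfl⟩ := S.φ_surj v
  obtain ⟨b, hb, rfl⟩ := S.φ_surj w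
  rw [← S.ρ_φ g a ha, ← S.ρ_φ g b hb]
  have hgz : (g : G) * z * (g : G)⁻¹ = z := by
    rw [(Subgroup.mem_centralizer_singleton_iff.mp g.2), mul_inv_cancel_right]
  have h1 := S.φ_comm _ (S.conj_mem _ g.2 a ha) _ (S.conj_mem _ g.2 b hb)
  have h2 := congrArg (MulAut.conj (g : G)) (S.φ_comm a ha b hb)
  rw [map_mul, map_mul, map_mul, MulAut.conj_apply, MulAut.conj_apply, h1, mul_right_inj] at h2
  cases h3 : pol8 m (φ a) (φ b) <;>
    cases h4 : pol8 m (φ ((g : G) * a * (g : G)⁻¹)) (φ ((g : G) * b * (g : G)⁻¹)) <;>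
    simp [h3, h4, MulAut.conj_apply, hgz, S.ne_one, S.ne_one.symm] at h2 ⊢

theorem card_oGroup [Finite G] (S : FixZ z a J m φ ρ) : Nat.card oGroup = 25920 := by
  have h1 := ρ.ker.card_mul_index
  rw [Subgroup.index_ker, S.ρ_range, S.card_cent] at h1
  have h2 : ρ.ker = J.subgroupOf (Subgroup.centralizer ({z} : Set G)) := by
    ext g
    exact S.ρ_ker g
  rw [h2, Nat.card_congr (Subgroup.subgroupOfEquivOfLe S.le_cent).toEquiv, S.card_J] at h1
  exact Nat.eq_of_mul_eq_mul_left (by norm_num) h1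

theorem exists_conj_T [Finite G] (S : FixZ z a J m φ ρ) {P : Subgroup (Equiv.Perm V)}
    (hP : P ≤ oGroup) (hp : IsPGroup 2 P) : ∃ h ∈ oGroup, ∀ x ∈ P, h * x * h⁻¹ ∈ T := by
  have hP' : IsPGroup 2 (P.subgroupOf oGroup) :=
    hp.comap_of_injective oGroup.subtype (Subgroup.subtype_injective _)
  obtain ⟨Q, hQ⟩ := hP'.exists_le_sylow
  have hc : Nat.card (T.subgroupOf oGroup) = 2 ^ (Nat.card oGroup).factorization 2 := by
    rw [Nat.card_congr (Subgroup.subgroupOfEquivOfLe T_le).toEquiv, card_T, card_oGroup S,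
      show (25920 : ℕ) = 2 ^ 6 * 405 by norm_num,
      Nat.factorization_mul (by norm_num) (by norm_num), Finsupp.add_apply,
      Nat.Prime.factorization_pow Nat.prime_two, Finsupp.single_eq_same,
      Nat.factorization_eq_zero_of_not_dvd (show ¬ 2 ∣ 405 by norm_num)]
    rfl
  obtain ⟨g, hg⟩ := MulAction.exists_smul_eq oGroup Q (Sylow.ofCard (T.subgroupOf oGroup) hc)
  refine ⟨g, g.2, fun x hx => ?_⟩
  have hxQ : (⟨x, hP hx⟩ : oGroup) ∈ (Q : Subgroup oGroup) := hQ hx
  have h1 := Subgroup.smul_mem_pointwise_smul _ (MulAut.conj g) _ hxQ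
  have h2 : (MulAut.conj g • (Q : Subgroup oGroup)) = T.subgroupOf oGroup :=
    congrArg (fun R : Sylow 2 oGroup => (R : Subgroup oGroup)) hg
  rw [h2] at h1
  exact h1

theorem common_fix [Finite G] (S : FixZ z a J m φ ρ) {P : Subgroup (Equiv.Perm V)}
    (hP : P ≤ oGroup) (hp : IsPGroup 2 P) {x y : Equiv.Perm V} (hx : x ∈ P) (hy : y ∈ P)
    (hxy : x * y ≠ y * x) :
    (Finset.univ.filter fun v : V => x v = v ∧ y v = v).card < 32 := by
  obtain ⟨h, -, hT⟩ := exists_conj_T S hP hp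
  obtain ⟨i, hi⟩ := hT x hx
  obtain ⟨j, hj⟩ := hT y hy
  have hle : (Finset.univ.filter fun v : V => x v = v ∧ y v = v).card ≤
      (Finset.univ.filter fun v : V =>
        low i.val (lo v).val = (lo v).val ∧ low j.val (lo v).val = (lo v).val).card := by
    refine Finset.card_le_card_of_injOn (fun v => h v) (fun v hv => ?_) h.injective.injOn
    simp only [Finset.coe_filter, Finset.mem_univ, true_and, Set.mem_ofPred_eq] at hv ⊢
    rw [← perm_fix_iff, ← perm_fix_iff, hi, hj, conj_fix, conj_fix]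
    exact hv
  rw [card_lift (fun a : Fin 64 => low i.val a.val = a.val ∧ low j.val a.val = a.val)] at hle
  rcases comm_spec i j with ⟨-, hc⟩ | ⟨-, -, hlt⟩
  · have he : perm i * perm j = perm j * perm i := by
      apply Equiv.ext; intro v; apply Fin.ext
      show (app i (app j v)).val = (app j (app i v)).val
      rw [app_comp, app_comp, show v.val % 64 = (lo v).val from rfl, hc]
    rw [hi, hj] at he
    refine absurd ?_ hxy
    have he' : h * (x * y) * h⁻¹ = h * (y * x) * h⁻¹ := by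
      calc h * (x * y) * h⁻¹ = h * x * h⁻¹ * (h * y * h⁻¹) := by group
        _ = h * y * h⁻¹ * (h * x * h⁻¹) := he
        _ = h * (y * x) * h⁻¹ := by group
    exact mul_left_cancel (mul_right_cancel he')
  · have he : (Finset.univ.filter fun a : Fin 64 =>
        low i.val a.val = a.val ∧ low j.val a.val = a.val).card =
        count64 (fixTab.getD i.val 0 &&& fixTab.getD j.val 0) := by
      rw [count64]
      congr 1
      refine Finset.filter_congr fun a _ => ?_
      rw [Nat.testBit_land, Bool.and_eq_true, fix_spec, fix_spec]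
    omega

theorem elementary_le [Finite G] (S : FixZ z a J m φ ρ) {P : Subgroup (Equiv.Perm V)}
    (hP : P ≤ oGroup) (hsq : ∀ x ∈ P, x * x = 1) (hcomm : ∀ x ∈ P, ∀ y ∈ P, x * y = y * x) :
    Nat.card P ≤ 16 := by
  have hp : IsPGroup 2 P := fun x => ⟨1, Subtype.ext (by simpa [pow_two] using hsq _ x.2)⟩
  obtain ⟨h, -, hT⟩ := exists_conj_T S hP hp
  choose f hf using fun x : P => hT x x.2
  have finj : Function.Injective f := fun x y he => Subtype.ext (by
    have := congrArg perm he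
    rw [hf, hf] at this
    simpa using this)
  obtain ⟨k, hk⟩ := IsPGroup.iff_card.mp hp
  rw [hk]
  by_contra hgt
  have hk5 : 5 ≤ k := by
    by_contra hk4
    exact hgt (le_trans (Nat.pow_le_pow_right (by norm_num) (by omega : k ≤ 4)) (by norm_num))
  have hcard : 32 ≤ Nat.card P := by
    rw [hk]; exact le_trans (by norm_num) (Nat.pow_le_pow_right (by norm_num) hk5)
  have : Fintype P := Fintype.ofFinite _
  rw [Nat.card_eq_fintype_card, ← Finset.card_univ,
    ← Finset.card_image_of_injective _ finj] at hcard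
  have hbig : Finset.univ.image f ⊆ Finset.univ.filter fun i : Fin 64 => i.val ∈ bigTab := by
    intro i hi
    obtain ⟨x, -, rfl⟩ := Finset.mem_image.mp hi
    rw [Finset.mem_filter]
    refine ⟨Finset.mem_univ _, big_spec _ (low_of_sq ?_) (le_trans hcard ?_)⟩
    · rw [hf]
      calc h * (x : Equiv.Perm V) * h⁻¹ * (h * (x : Equiv.Perm V) * h⁻¹)
          = h * ((x : Equiv.Perm V) * x) * h⁻¹ := by group
        _ = 1 := by rw [hsq x x.2, mul_one, mul_inv_cancel]
    · refine Finset.card_le_card fun j hj => ?_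
      obtain ⟨y, -, rfl⟩ := Finset.mem_image.mp hj
      rw [Finset.mem_filter]
      refine ⟨Finset.mem_univ _, ?_⟩
      rcases comm_spec (f x) (f y) with ⟨h1, -⟩ | ⟨-, ⟨l, hl⟩, -⟩
      · exact h1
      · refine absurd (low_of_comm ?_ ⟨2 ^ l.val, pow_lt l⟩) hl
        rw [hf, hf]
        calc h * (x : Equiv.Perm V) * h⁻¹ * (h * (y : Equiv.Perm V) * h⁻¹)
            = h * ((x : Equiv.Perm V) * y) * h⁻¹ := by group
          _ = h * ((y : Equiv.Perm V) * x) * h⁻¹ := by rw [hcomm x x.2 y y.2]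
          _ = h * (y : Equiv.Perm V) * h⁻¹ * (h * (x : Equiv.Perm V) * h⁻¹) := by group
  have := Finset.card_le_card hbig
  have := big_card
  omega

theorem invol_facts [Finite G] (S : FixZ z a J m φ ρ) {r : Equiv.Perm V} (hr : r ∈ oGroup)
    (h1 : r ≠ 1) (h2 : r * r = 1) :
    (Finset.univ.filter fun v : V => r v = v).card = 64 ∧
    (∃ a b : Fin 64, r (lv a) = lv a ∧ r (lv b) = lv b ∧ pol8 m (lv a) (lv b) = true) ∧
    ∀ w : V, w.val < 64 → (∀ v : V, v.val < 64 → r v = v → pol8 m w v = false) →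
      ∃ y : V, vadd (r y) y = w := by
  have hp : IsPGroup 2 (Subgroup.zpowers r) := by
    intro x
    refine ⟨1, Subtype.ext ?_⟩
    obtain ⟨n, hn⟩ := x.2
    have hn' : r ^ n = (x : Equiv.Perm V) := hn
    simp only [Nat.pow_one, Subgroup.coe_pow, Subgroup.coe_one, ← hn']
    rw [pow_two, ← (Commute.refl r).mul_zpow, h2, one_zpow]
  obtain ⟨h, hh, hT⟩ := exists_conj_T S (Subgroup.zpowers_le.mpr hr) hp
  obtain ⟨i, hi⟩ := hT r (Subgroup.mem_zpowers r)
  have hh' : h⁻¹ ∈ oGroup := inv_mem hh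
  have hi0 : i ≠ 0 := by
    rintro rfl
    rw [perm_zero] at hi
    exact h1 (by simpa using hi.symm)
  have hsq : ∀ v : Fin 64, low i.val (low i.val v.val) = v.val := by
    refine low_of_sq ?_
    rw [hi]
    calc h * r * h⁻¹ * (h * r * h⁻¹) = h * (r * r) * h⁻¹ := by group
      _ = 1 := by rw [h2, mul_one, mul_inv_cancel]
  have hfix : ∀ v : V, perm i v = v → r (h⁻¹ v) = h⁻¹ v := by
    intro v hv
    rw [hi] at hv
    have := congrArg (fun u => h⁻¹ u) hv
    simpa [Equiv.Perm.mul_apply] using this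
  refine ⟨?_, ?_, ?_⟩
  · have he : (Finset.univ.filter fun v : V => r v = v).card =
        (Finset.univ.filter fun v : V => low i.val (lo v).val = (lo v).val).card := by
      refine Finset.card_nbij' (fun v => h v) (fun v => h⁻¹ v) ?_ ?_ ?_ ?_
      · intro v hv
        simp only [Finset.coe_filter, Finset.mem_univ, true_and, Set.mem_ofPred_eq] at hv ⊢
        rw [← perm_fix_iff, hi, conj_fix]; exact hv
      · intro v hv
        simp only [Finset.coe_filter, Finset.mem_univ, true_and, Set.mem_ofPred_eq] at hv ⊢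
        exact hfix v ((perm_fix_iff i v).mpr hv)
      · intro v _; simp
      · intro v _; simp
    rw [he, card_lift (fun a : Fin 64 => low i.val a.val = a.val)]
    have := invol_count i hi0 hsq
    rw [count64] at this
    have he2 : (Finset.univ.filter fun a : Fin 64 => low i.val a.val = a.val) =
        Finset.univ.filter fun a : Fin 64 => (fixTab.getD i.val 0).testBit a.val = true :=
      Finset.filter_congr fun a _ => (fix_spec i a).symm
    rw [he2, this]
  · obtain ⟨a, b, -, -, ha, hb, hab⟩ := invol_pair i hi0 hsq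
    have la := good_low hh' (v := lv a) a.isLt
    have lb := good_low hh' (v := lv b) b.isLt
    refine ⟨lo (h⁻¹ (lv a)), lo (h⁻¹ (lv b)), ?_, ?_, ?_⟩ <;>
      simp only [lv_of_lt la, lv_of_lt lb]
    · exact hfix _ ((perm_fix_iff i _).mpr (by rw [lo_lv]; exact ha))
    · exact hfix _ ((perm_fix_iff i _).mpr (by rw [lo_lv]; exact hb))
    · rw [act_pol S hh', pol8_low]; exact hab
  · intro w hw hperp
    have hw' : (h w).val < 64 := good_low hh hw
    obtain ⟨y, hy⟩ := perp_spec i hi0 hsq (lo (h w)) fun k => by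
      obtain ⟨hlt, hf⟩ := basis_spec i hi0 hsq k
      have hb : Fin.ofNat 256 (fixBasis.getD (4 * i.val + k.val) 0) =
          lv ⟨fixBasis.getD (4 * i.val + k.val) 0, hlt⟩ :=
        Fin.ext (Nat.mod_eq_of_lt (by omega))
      rw [hb, ← pol8_low m, lv_of_lt hw', ← act_pol S hh',
        show h⁻¹ (h w) = w from h.symm_apply_apply w]
      exact hperp _ (good_low hh' (v := lv _) hlt)
        (hfix _ ((perm_fix_iff i _).mpr (by rw [lo_lv]; exact hf)))
    refine ⟨h⁻¹ (lv y), h.injective ?_⟩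
    rw [act_add S hh, show h (h⁻¹ (lv y)) = lv y from h.apply_symm_apply _,
      show h (r (h⁻¹ (lv y))) = perm i (lv y) from by rw [hi]; rfl]
    apply Fin.ext
    rw [vadd_val, perm_apply, app_lv]
    have : (lo (h w)).val = (h w).val := Nat.mod_eq_of_lt hw'
    rw [← this]; exact hy

end H18.Fi22C
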